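import Mathlib

/-!
# The order of the normal Sylow subgroup of a group all of whose proper subgroups are nilpotent
-/

set_option autoImplicit false

namespace Cfsg.Agent.MaxSchmidt

open Polynomial
open scoped commutatorElement

/-- The value of a polynomial on a group element. -/
noncomputable def word {p : ℕ} {P : Type*} [Group P] (f : (ZMod p)[X]) (σ : MulAut P) (x : P) : P :=
  ((List.range (f.natDegree + 1)).map fun i => ((σ ^ i) x) ^ (f.coeff i).val).prod

/-- The product along an orbit. -/
def orbitProd {P : Type*} [Group P] (σ : MulAut P) (q : ℕ) (v : P) : P :=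
  ((List.range q).map fun i => (σ ^ i) v).prod

theorem orbitProd_twist {P : Type*} [Group P] (σ : MulAut P) (u : P) (q : ℕ) :
    orbitProd σ q (u⁻¹ * σ u) = u⁻¹ * (σ ^ q) u := by
  induction q with
  | zero => simp [orbitProd]
  | succ q ih =>
    rw [orbitProd, List.range_succ, List.map_append, List.prod_append]
    rw [orbitProd] at ih
    rw [ih, List.map_singleton, List.prod_singleton, map_mul, map_inv, ← mul_assoc, mul_inv_cancel_right,
      pow_succ, MulAut.mul_apply]

/-- A `p`-group with an automorphism centralising the Frattini subgroup and having irreducible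
annihilator on the quotient. -/
structure Datum {p : ℕ} (q : ℕ) (f : (ZMod p)[X]) {P : Type*} [Group P] (σ : MulAut P) (v : P)
    (N : Subgroup P) : Prop where
  pg : IsPGroup p P
  central : N ≤ Subgroup.center P
  fixed : ∀ n ∈ N, σ n = n
  comm : ∀ a b : P, ⁅a, b⁆ ∈ N
  pow : ∀ a : P, a ^ p ∈ N
  ord : σ ^ q = 1
  tele : orbitProd σ q v = 1
  gen : Subgroup.closure (Set.range fun i : ℕ => (σ ^ i) v) = ⊤
  ann : ∀ x : P, word f σ x ∈ N

theorem comm_mul_left {P : Type*} [Group P] (N : Subgroup P) (hN : N ≤ Subgroup.center P)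
    (hc : ∀ a b : P, ⁅a, b⁆ ∈ N) (a b c : P) : ⁅a * b, c⁆ = ⁅a, c⁆ * ⁅b, c⁆ := by
  have h1 := Subgroup.mem_center_iff.1 (hN (hc b c)) a
  have h2 := Subgroup.mem_center_iff.1 (hN (hc b c)) ⁅a, c⁆
  rw [show ⁅a * b, c⁆ = (a * ⁅b, c⁆ * a⁻¹) * ⁅a, c⁆ by simp only [commutatorElement_def]; group,
    h1, mul_inv_cancel_right, h2]

theorem comm_mul_right {P : Type*} [Group P] (N : Subgroup P) (hN : N ≤ Subgroup.center P)
    (hc : ∀ a b : P, ⁅a, b⁆ ∈ N) (a b c : P) : ⁅a, b * c⁆ = ⁅a, b⁆ * ⁅a, c⁆ := by
  have h1 := Subgroup.mem_center_iff.1 (hN (hc a c)) b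
  rw [show ⁅a, b * c⁆ = ⁅a, b⁆ * (b * ⁅a, c⁆ * b⁻¹) by simp only [commutatorElement_def]; group,
    h1, mul_inv_cancel_right]

theorem exists_lift_hom {p : ℕ} [Fact p.Prime] {W M : Type*} [AddCommGroup W] [Module (ZMod p) W]
    [AddCommGroup M] (β : W →+ W →+ M) (s : Module.End (ZMod p) W) {q : ℕ} (hsq : s ^ q = 1)
    (hq : 1 ≤ q) (hinv : ∀ x y, β (s x) (s y) = β x y) (g : (ZMod p)[X]) :
    ∀ x y, β (aeval s g x) y = β x (aeval (s ^ (q - 1)) g y) := by
  have h1 : ∀ x y, β (s x) y = β x ((s ^ (q - 1)) y) := by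
    intro x y
    conv_lhs => rw [← show (s ^ q) y = y by rw [hsq]; rfl]
    rw [show q = q - 1 + 1 by omega, pow_succ', Module.End.mul_apply, hinv, Nat.add_sub_cancel]
  have hsmul : ∀ (c : ZMod p) (x y : W), β (c • x) y = β x (c • y) := fun c x y => by
    rw [← ZMod.natCast_zmod_val c, Nat.cast_smul_eq_nsmul, Nat.cast_smul_eq_nsmul, map_nsmul, map_nsmul,
      AddMonoidHom.nsmul_apply]
  have hpow : ∀ (n : ℕ) (x y : W), β ((s ^ n) x) y = β x (((s ^ (q - 1)) ^ n) y) := by
    intro n
    induction n with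
    | zero => intro x y; rfl
    | succ n ih =>
      intro x y
      rw [pow_succ, Module.End.mul_apply, ih, h1, pow_succ' (s ^ (q - 1)), Module.End.mul_apply]
  induction g using Polynomial.induction_on' with
  | add g h hg hh => intro x y; simp [hg, hh]
  | monomial n c =>
    intro x y
    rw [aeval_monomial, aeval_monomial, ← Algebra.smul_def, ← Algebra.smul_def, LinearMap.smul_apply,
      LinearMap.smul_apply, hsmul, hpow]
    rw [map_smul]

/-- The quotient by the central part is small. -/
theorem index_le {p q a : ℕ} [Fact p.Prime] {K : Type*} [Field K] [Algebra (ZMod p) K] [Finite K]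
    (ζ : K) (hsurj : Function.Surjective (aeval (R := ZMod p) ζ)) (hK : Nat.card K = p ^ a)
    {P : Type*} [Group P] [Finite P] {σ : MulAut P} {v : P} {N : Subgroup P}
    (D : Datum q (minpoly (ZMod p) ζ) σ v N) : N.index ≤ p ^ a := by
  classical
  haveI hn : N.Normal := ⟨fun x hx g => by
    rw [Subgroup.mem_center_iff.1 (D.central hx) g, mul_inv_cancel_right]; exact hx⟩
  set f := minpoly (ZMod p) ζ with hf
  letI : CommGroup (P ⧸ N) :=
    { (inferInstance : Group (P ⧸ N)) with
      mul_comm := fun x y => by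
        obtain ⟨x, rfl⟩ := QuotientGroup.mk_surjective x
        obtain ⟨y, rfl⟩ := QuotientGroup.mk_surjective y
        rw [← QuotientGroup.mk_mul, ← QuotientGroup.mk_mul, QuotientGroup.eq]
        have := D.comm y⁻¹ x⁻¹
        rw [commutatorElement_def, inv_inv, inv_inv] at this
        rwa [show (x * y)⁻¹ * (y * x) = y⁻¹ * x⁻¹ * y * x by group] }
  have hp0 : ∀ w : (Additive (P ⧸ N)), p • w = 0 := fun w => by
    obtain ⟨x, hx⟩ := QuotientGroup.mk_surjective (Additive.toMul w)
    apply Additive.toMul.injective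
    rw [toMul_nsmul, ← hx, ← QuotientGroup.mk_pow, toMul_zero, QuotientGroup.eq_one_iff]
    exact D.pow x
  haveI : Module (ZMod p) (Additive (P ⧸ N)) := AddCommGroup.zmodModule hp0
  let π : P → (Additive (P ⧸ N)) := fun x => Additive.ofMul (x : P ⧸ N)
  have hπs : Function.Surjective π := fun w => by
    obtain ⟨x, hx⟩ := QuotientGroup.mk_surjective (Additive.toMul w)
    exact ⟨x, by show Additive.ofMul _ = w; rw [hx]; exact ofMul_toMul w⟩
  have hπmul : ∀ x y, π (x * y) = π x + π y := fun x y => rfl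
  have hπ1 : π 1 = 0 := rfl
  have hπker : ∀ x, π x = 0 ↔ x ∈ N := fun x => QuotientGroup.eq_one_iff x
  let sA : (Additive (P ⧸ N)) →+ (Additive (P ⧸ N)) := MonoidHom.toAdditive (QuotientGroup.map N N σ.toMonoidHom (fun x hx => by
    show σ x ∈ N; rw [D.fixed x hx]; exact hx))
  obtain ⟨s, hsA⟩ : ∃ s : (Additive (P ⧸ N)) →ₗ[ZMod p] (Additive (P ⧸ N)), ∀ w, s w = sA w := ⟨AddMonoidHom.toZModLinearMap p sA, fun _ => rfl⟩
  have hs : ∀ x : P, s (π x) = π (σ x) := fun x => hsA _
  have hspow : ∀ (n : ℕ) x, (s ^ n) (π x) = π ((σ ^ n) x) := by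
    intro n
    induction n with
    | zero => intro x; rfl
    | succ n ih => intro x; rw [pow_succ, Module.End.mul_apply, hs, ih, pow_succ, MulAut.mul_apply]
  have hsq : s ^ q = 1 := LinearMap.ext fun w => by
    obtain ⟨x, rfl⟩ := hπs w; rw [hspow, D.ord]; rfl
  have hword : ∀ (g : (ZMod p)[X]) x, π (word g σ x) = aeval s g (π x) := by
    intro g x
    rw [aeval_eq_sum_range, LinearMap.sum_apply]
    have hlist : ∀ n, π (((List.range n).map fun i => ((σ ^ i) x) ^ (g.coeff i).val).prod) =
        ∑ i ∈ Finset.range n, (g.coeff i • s ^ i) (π x) := by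
      intro n
      induction n with
      | zero => rfl
      | succ n ih =>
        rw [List.range_succ, List.map_append, List.prod_append, hπmul, ih, Finset.sum_range_succ]
        congr 1
        rw [List.map_singleton, List.prod_singleton, LinearMap.smul_apply, hspow,
          ← ZMod.natCast_zmod_val (g.coeff n), Nat.cast_smul_eq_nsmul, ZMod.natCast_zmod_val]
        rfl
    exact hlist _
  have hf0 : aeval s f = 0 := LinearMap.ext fun w => by
    obtain ⟨x, rfl⟩ := hπs w; rw [← hword]; exact (hπker _).2 (D.ann x)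
  have hgood : ∀ g g' : (ZMod p)[X], aeval ζ g = aeval ζ g' → aeval s g = aeval s g' := by
    intro g g' h
    obtain ⟨c, hc⟩ := minpoly.dvd (ZMod p) ζ (p := g - g') (by rw [map_sub, h, sub_self])
    rw [← sub_eq_zero, ← map_sub, hc, map_mul, hf0, zero_mul]
  -- cyclicity
  have hcyc : ∀ w : (Additive (P ⧸ N)), ∃ g : (ZMod p)[X], w = aeval s g (π v) := by
    intro w
    obtain ⟨x, rfl⟩ := hπs w
    refine Subgroup.closure_induction (p := fun x _ => ∃ g : (ZMod p)[X], π x = aeval s g (π v))
      ?_ ?_ ?_ ?_ (D.gen ▸ Subgroup.mem_top x)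
    · rintro y ⟨i, rfl⟩; exact ⟨X ^ i, by rw [map_pow, aeval_X, hspow]⟩
    · exact ⟨0, by rw [map_zero]; rfl⟩
    · rintro y z _ _ ⟨g, hg⟩ ⟨h, hh⟩; exact ⟨g + h, by rw [hπmul, hg, hh, map_add, LinearMap.add_apply]⟩
    · rintro y _ ⟨g, hg⟩; exact ⟨-g, by rw [map_neg, LinearMap.neg_apply, ← hg]; rfl⟩
  have hWcard : Nat.card (P ⧸ N) ≤ Nat.card K := by
    refine Nat.card_le_card_of_surjective
      (fun z : K => Additive.toMul (aeval s (Function.surjInv hsurj z) (π v))) fun w => ?_
    obtain ⟨g, hg⟩ := hcyc (Additive.ofMul w)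
    refine ⟨aeval ζ g, ?_⟩
    show Additive.toMul _ = w
    rw [hgood _ g (Function.surjInv_eq hsurj _), ← hg, toMul_ofMul]
  rw [Subgroup.index_eq_card, ← hK]
  exact hWcard

/-- A fixed point lies in the central part. -/
theorem fixed_mem {p q : ℕ} [Fact p.Prime] [Fact q.Prime] (hpq : p ≠ q) {f : (ZMod p)[X]}
    {P : Type*} [Group P] {σ : MulAut P} {v : P} {N : Subgroup P} (D : Datum q f σ v N) {x : P}
    (hx : σ x = x) : x ∈ N := by
  haveI hn : N.Normal := ⟨fun x hx g => by
    rw [Subgroup.mem_center_iff.1 (D.central hx) g, mul_inv_cancel_right]; exact hx⟩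
  letI : CommGroup (P ⧸ N) :=
    { (inferInstance : Group (P ⧸ N)) with
      mul_comm := fun x y => by
        obtain ⟨x, rfl⟩ := QuotientGroup.mk_surjective x
        obtain ⟨y, rfl⟩ := QuotientGroup.mk_surjective y
        rw [← QuotientGroup.mk_mul, ← QuotientGroup.mk_mul, QuotientGroup.eq]
        have := D.comm y⁻¹ x⁻¹
        rw [commutatorElement_def, inv_inv, inv_inv] at this
        rwa [show (x * y)⁻¹ * (y * x) = y⁻¹ * x⁻¹ * y * x by group] }
  let ρ : P →* P ⧸ N := QuotientGroup.mk' N
  let T : P →* P ⧸ N := ∏ i ∈ Finset.range q, ρ.comp (σ ^ i).toMonoidHom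
  have hT : ∀ x, T x = ∏ i ∈ Finset.range q, ρ ((σ ^ i) x) := fun x => by
    simp [T, MonoidHom.finsetProd_apply]
  have hv : T v = 1 := by
    rw [hT]
    have : ∀ n, ∏ i ∈ Finset.range n, ρ ((σ ^ i) v) = ρ (orbitProd σ n v) := by
      intro n
      induction n with
      | zero => simp [orbitProd]
      | succ n ih =>
        rw [Finset.prod_range_succ, ih, ← map_mul, orbitProd, orbitProd, List.range_succ, List.map_append,
          List.prod_append, List.map_singleton, List.prod_singleton]
    rw [this, D.tele, map_one]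
  have hinv : ∀ x, T (σ x) = T x := by
    intro x
    rw [hT, hT]
    have e1 := Finset.prod_range_succ' (fun i => ρ ((σ ^ i) x)) q
    have e2 := Finset.prod_range_succ (fun i => ρ ((σ ^ i) x)) q
    rw [e1] at e2
    rw [D.ord] at e2
    simp only [pow_zero, MulAut.one_apply] at e2
    rw [← mul_right_cancel e2]
    exact Finset.prod_congr rfl fun i _ => by rw [pow_succ, MulAut.mul_apply]
  have hker : T.ker = ⊤ := by
    rw [eq_top_iff, ← D.gen, Subgroup.closure_le]
    rintro y ⟨i, rfl⟩
    show T ((σ ^ i) v) = 1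
    induction i with
    | zero => exact hv
    | succ i ih => rw [pow_succ', MulAut.mul_apply, hinv, ih]
  have h1 : T x = 1 := MonoidHom.mem_ker.1 (hker ▸ Subgroup.mem_top x)
  have hfix : ∀ i : ℕ, (σ ^ i) x = x := by
    intro i
    induction i with
    | zero => rfl
    | succ i ih => rw [pow_succ, MulAut.mul_apply, hx, ih]
  rw [hT] at h1
  simp only [hfix, Finset.prod_const, Finset.card_range] at h1
  obtain ⟨k, hk⟩ := D.pg x
  have h2 : ρ x ^ p ^ k = 1 := by rw [← map_pow, hk, map_one]
  have h3 := pow_gcd_eq_one.2 ⟨h1, h2⟩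
  rw [Nat.Coprime.pow_right k ((Nat.coprime_primes (Fact.out : q.Prime) Fact.out).2 (Ne.symm hpq)), pow_one] at h3
  exact (QuotientGroup.eq_one_iff x).1 h3

/-- The basic bound. -/
theorem card_le {p q a : ℕ} [Fact p.Prime] [Fact q.Prime] (hpq : p ≠ q) {K : Type*} [Field K]
    [Algebra (ZMod p) K] [Finite K] (ζ : K) (hζq : ζ ^ q = 1) (hζ1 : ζ ≠ 1)
    (hsurj : Function.Surjective (aeval (R := ZMod p) ζ)) (hK : Nat.card K = p ^ a)
    (hmin : ∀ d, 0 < d → q ∣ p ^ d - 1 → a ∣ d) (hqa : q ∣ p ^ a - 1)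
    {P : Type*} [Group P] [Finite P] {σ : MulAut P} {v : P} {N : Subgroup P}
    (D : Datum q (minpoly (ZMod p) ζ) σ v N) :
    Nat.card P ≤ p ^ (if a % 2 = 1 then a else 3 * a / 2) := by
  classical
  haveI hn : N.Normal := ⟨fun x hx g => by
    rw [Subgroup.mem_center_iff.1 (D.central hx) g, mul_inv_cancel_right]; exact hx⟩
  set f := minpoly (ZMod p) ζ with hf
  letI : CommGroup (P ⧸ N) :=
    { (inferInstance : Group (P ⧸ N)) with
      mul_comm := fun x y => by
        obtain ⟨x, rfl⟩ := QuotientGroup.mk_surjective x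
        obtain ⟨y, rfl⟩ := QuotientGroup.mk_surjective y
        rw [← QuotientGroup.mk_mul, ← QuotientGroup.mk_mul, QuotientGroup.eq]
        have := D.comm y⁻¹ x⁻¹
        rw [commutatorElement_def, inv_inv, inv_inv] at this
        rwa [show (x * y)⁻¹ * (y * x) = y⁻¹ * x⁻¹ * y * x by group] }
  have hp0 : ∀ w : (Additive (P ⧸ N)), p • w = 0 := fun w => by
    obtain ⟨x, hx⟩ := QuotientGroup.mk_surjective (Additive.toMul w)
    apply Additive.toMul.injective
    rw [toMul_nsmul, ← hx, ← QuotientGroup.mk_pow, toMul_zero, QuotientGroup.eq_one_iff]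
    exact D.pow x
  haveI : Module (ZMod p) (Additive (P ⧸ N)) := AddCommGroup.zmodModule hp0
  let π : P → (Additive (P ⧸ N)) := fun x => Additive.ofMul (x : P ⧸ N)
  have hπs : Function.Surjective π := fun w => by
    obtain ⟨x, hx⟩ := QuotientGroup.mk_surjective (Additive.toMul w)
    exact ⟨x, by show Additive.ofMul _ = w; rw [hx]; exact ofMul_toMul w⟩
  have hπmul : ∀ x y, π (x * y) = π x + π y := fun x y => rfl
  have hπ1 : π 1 = 0 := rfl
  have hπker : ∀ x, π x = 0 ↔ x ∈ N := fun x => QuotientGroup.eq_one_iff x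
  let sA : (Additive (P ⧸ N)) →+ (Additive (P ⧸ N)) := MonoidHom.toAdditive (QuotientGroup.map N N σ.toMonoidHom (fun x hx => by
    show σ x ∈ N; rw [D.fixed x hx]; exact hx))
  obtain ⟨s, hsA⟩ : ∃ s : (Additive (P ⧸ N)) →ₗ[ZMod p] (Additive (P ⧸ N)), ∀ w, s w = sA w := ⟨AddMonoidHom.toZModLinearMap p sA, fun _ => rfl⟩
  have hs : ∀ x : P, s (π x) = π (σ x) := fun x => hsA _
  have hspow : ∀ (n : ℕ) x, (s ^ n) (π x) = π ((σ ^ n) x) := by
    intro n
    induction n with
    | zero => intro x; rfl
    | succ n ih => intro x; rw [pow_succ, Module.End.mul_apply, hs, ih, pow_succ, MulAut.mul_apply]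
  have hsq : s ^ q = 1 := LinearMap.ext fun w => by
    obtain ⟨x, rfl⟩ := hπs w; rw [hspow, D.ord]; rfl
  have hword : ∀ (g : (ZMod p)[X]) x, π (word g σ x) = aeval s g (π x) := by
    intro g x
    rw [aeval_eq_sum_range, LinearMap.sum_apply]
    have hlist : ∀ n, π (((List.range n).map fun i => ((σ ^ i) x) ^ (g.coeff i).val).prod) =
        ∑ i ∈ Finset.range n, (g.coeff i • s ^ i) (π x) := by
      intro n
      induction n with
      | zero => rfl
      | succ n ih =>
        rw [List.range_succ, List.map_append, List.prod_append, hπmul, ih, Finset.sum_range_succ]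
        congr 1
        rw [List.map_singleton, List.prod_singleton, LinearMap.smul_apply, hspow,
          ← ZMod.natCast_zmod_val (g.coeff n), Nat.cast_smul_eq_nsmul, ZMod.natCast_zmod_val]
        rfl
    exact hlist _
  have hf0 : aeval s f = 0 := LinearMap.ext fun w => by
    obtain ⟨x, rfl⟩ := hπs w; rw [← hword]; exact (hπker _).2 (D.ann x)
  have hgood : ∀ g g' : (ZMod p)[X], aeval ζ g = aeval ζ g' → aeval s g = aeval s g' := by
    intro g g' h
    obtain ⟨c, hc⟩ := minpoly.dvd (ZMod p) ζ (p := g - g') (by rw [map_sub, h, sub_self])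
    rw [← sub_eq_zero, ← map_sub, hc, map_mul, hf0, zero_mul]
  -- cyclicity
  have hcyc : ∀ w : (Additive (P ⧸ N)), ∃ g : (ZMod p)[X], w = aeval s g (π v) := by
    intro w
    obtain ⟨x, rfl⟩ := hπs w
    refine Subgroup.closure_induction (p := fun x _ => ∃ g : (ZMod p)[X], π x = aeval s g (π v))
      ?_ ?_ ?_ ?_ (D.gen ▸ Subgroup.mem_top x)
    · rintro y ⟨i, rfl⟩; exact ⟨X ^ i, by rw [map_pow, aeval_X, hspow]⟩
    · exact ⟨0, by rw [map_zero]; rfl⟩
    · rintro y z _ _ ⟨g, hg⟩ ⟨h, hh⟩; exact ⟨g + h, by rw [hπmul, hg, hh, map_add, LinearMap.add_apply]⟩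
    · rintro y _ ⟨g, hg⟩; exact ⟨-g, by rw [map_neg, LinearMap.neg_apply, ← hg]; rfl⟩
  have hWcard : Nat.card (P ⧸ N) ≤ Nat.card K := by
    refine Nat.card_le_card_of_surjective
      (fun z : K => Additive.toMul (aeval s (Function.surjInv hsurj z) (π v))) fun w => ?_
    obtain ⟨g, hg⟩ := hcyc (Additive.ofMul w)
    refine ⟨aeval ζ g, ?_⟩
    show Additive.toMul _ = w
    rw [hgood _ g (Function.surjInv_eq hsurj _), ← hg, toMul_ofMul]
  -- the commutator form
  letI : CommGroup N :=
    { (inferInstance : Group N) with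
      mul_comm := fun x y => Subtype.ext (Subgroup.mem_center_iff.1 (D.central y.2) x) }
  have hwd : ∀ {x x' : P} (y : P), π x = π x' → ⁅x, y⁆ = ⁅x', y⁆ := by
    intro x x' y h
    have hm : x⁻¹ * x' ∈ N := QuotientGroup.eq.1 (Additive.ofMul.injective h)
    rw [show x' = x * (x⁻¹ * x') by group, comm_mul_left N D.central D.comm,
      show ⁅x⁻¹ * x', y⁆ = 1 from commutatorElement_eq_one_iff_mul_comm.2
        (Subgroup.mem_center_iff.1 (D.central hm) y).symm, mul_one]
  have hwd' : ∀ (x : P) {y y' : P}, π y = π y' → ⁅x, y⁆ = ⁅x, y'⁆ := by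
    intro x y y' h
    rw [← commutatorElement_inv y x, ← commutatorElement_inv y' x, hwd x h]
  let bA : P → (Additive (P ⧸ N)) →+ Additive N := fun x => AddMonoidHom.mk'
    (fun w => Additive.ofMul (⟨⁅x, Function.surjInv hπs w⁆, D.comm _ _⟩ : N)) fun w w' =>
      Additive.toMul.injective (Subtype.ext (by
        show ⁅x, _⁆ = ⁅x, _⁆ * ⁅x, _⁆
        rw [← comm_mul_right N D.central D.comm]
        exact hwd' x (by rw [hπmul, Function.surjInv_eq hπs, Function.surjInv_eq hπs, Function.surjInv_eq hπs])))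
  let β : (Additive (P ⧸ N)) →+ (Additive (P ⧸ N)) →+ Additive N := AddMonoidHom.mk' (fun w => bA (Function.surjInv hπs w)) fun w w' =>
    AddMonoidHom.ext fun u => Additive.toMul.injective (Subtype.ext (by
      show ⁅_, _⁆ = ⁅_, _⁆ * ⁅_, _⁆
      rw [← comm_mul_left N D.central D.comm]
      exact hwd _ (by rw [hπmul, Function.surjInv_eq hπs, Function.surjInv_eq hπs, Function.surjInv_eq hπs])))
  have hβ : ∀ x y : P, β (π x) (π y) = Additive.ofMul (⟨⁅x, y⁆, D.comm x y⟩ : N) := fun x y =>
    Additive.toMul.injective (Subtype.ext (by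
      show ⁅_, _⁆ = ⁅x, y⁆
      rw [hwd _ (Function.surjInv_eq hπs (π x)), hwd' _ (Function.surjInv_eq hπs (π y))]))
  have hinv : ∀ x y, β (s x) (s y) = β x y := by
    intro x y
    obtain ⟨x, rfl⟩ := hπs x
    obtain ⟨y, rfl⟩ := hπs y
    rw [hs, hs, hβ, hβ]
    exact congrArg _ (Subtype.ext (show ⁅σ x, σ y⁆ = ⁅x, y⁆ by
      rw [← map_commutatorElement σ, D.fixed _ (D.comm x y)]))
  have hq1 : 1 ≤ q := (Fact.out : q.Prime).one_le
  have hswap := exists_lift_hom β s hsq hq1 hinv
  let γ : K →+ Additive N := AddMonoidHom.mk'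
    (fun z => β (π v) (aeval s (Function.surjInv hsurj z) (π v))) fun z z' => by
      rw [hgood (Function.surjInv hsurj (z + z')) (Function.surjInv hsurj z + Function.surjInv hsurj z')
        (by rw [map_add, Function.surjInv_eq hsurj, Function.surjInv_eq hsurj, Function.surjInv_eq hsurj]),
        map_add, LinearMap.add_apply, map_add]
  have hγ : ∀ g : (ZMod p)[X], β (π v) (aeval s g (π v)) = γ (aeval ζ g) := fun g => by
    show _ = β (π v) _
    rw [hgood _ g (Function.surjInv_eq hsurj _)]
  have hγ' : ∀ h g : (ZMod p)[X], β (aeval s h (π v)) (aeval s g (π v)) = γ (aeval (ζ ^ (q - 1)) h * aeval ζ g) := by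
    intro h g
    rw [hswap, ← Module.End.mul_apply, ← aeval_X_pow (R := ZMod p) (n := q - 1) s, ← aeval_comp, ← map_mul, hγ,
      map_mul, aeval_comp, aeval_X_pow]
  -- all of `N` consists of commutators
  let N' : Subgroup P := (AddSubgroup.toSubgroup γ.range).map N.subtype
  have hN' : ∀ x y : P, ⁅x, y⁆ ∈ N' := by
    intro x y
    obtain ⟨h, hh⟩ := hcyc (π x)
    obtain ⟨g, hg⟩ := hcyc (π y)
    refine ⟨⟨⁅x, y⁆, D.comm x y⟩, ⟨aeval (ζ ^ (q - 1)) h * aeval ζ g, ?_⟩, rfl⟩
    rw [← hγ', ← hh, ← hg, hβ]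
    rfl
  haveI : N'.Normal := ⟨fun x hx g => by
    obtain ⟨n, hn', rfl⟩ := hx
    refine ⟨n, hn', ?_⟩
    show (n : P) = g * n * g⁻¹
    rw [Subgroup.mem_center_iff.1 (D.central n.2) g, mul_inv_cancel_right]⟩
  have hNN' : N ≤ N' := by
    letI : CommGroup (P ⧸ N') :=
      { (inferInstance : Group (P ⧸ N')) with
        mul_comm := fun x y => by
          obtain ⟨x, rfl⟩ := QuotientGroup.mk_surjective x
          obtain ⟨y, rfl⟩ := QuotientGroup.mk_surjective y
          rw [← QuotientGroup.mk_mul, ← QuotientGroup.mk_mul, QuotientGroup.eq]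
          have := hN' y⁻¹ x⁻¹
          rw [commutatorElement_def, inv_inv, inv_inv] at this
          rwa [show (x * y)⁻¹ * (y * x) = y⁻¹ * x⁻¹ * y * x by group] }
    let ρ : P →* P ⧸ N' := QuotientGroup.mk' N'
    let Φp : P →* P ⧸ N' := ∏ i ∈ Finset.range q, ρ.comp (σ ^ i).toMonoidHom
    have hPi : ∀ x, Φp x = ∏ i ∈ Finset.range q, ρ ((σ ^ i) x) := fun x => by
      simp [Φp, MonoidHom.finsetProd_apply]
    have hv1 : Φp v = 1 := by
      rw [hPi]
      have : ∀ n, ∏ i ∈ Finset.range n, ρ ((σ ^ i) v) = ρ (orbitProd σ n v) := by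
        intro n
        induction n with
        | zero => simp [orbitProd]
        | succ n ih =>
          rw [Finset.prod_range_succ, ih, ← map_mul, orbitProd, orbitProd, List.range_succ, List.map_append,
            List.prod_append, List.map_singleton, List.prod_singleton]
      rw [this, D.tele, map_one]
    have hinvPi : ∀ x, Φp (σ x) = Φp x := by
      intro x
      rw [hPi, hPi]
      have e1 := Finset.prod_range_succ' (fun i => ρ ((σ ^ i) x)) q
      have e2 := Finset.prod_range_succ (fun i => ρ ((σ ^ i) x)) q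
      rw [e1] at e2
      rw [D.ord] at e2
      simp only [pow_zero, MulAut.one_apply] at e2
      rw [← mul_right_cancel e2]
      exact Finset.prod_congr rfl fun i _ => by rw [pow_succ, MulAut.mul_apply]
    have hall : ∀ x, Φp x = 1 := by
      have hker : Φp.ker = ⊤ := by
        rw [eq_top_iff, ← D.gen, Subgroup.closure_le]
        rintro y ⟨i, rfl⟩
        show Φp ((σ ^ i) v) = 1
        induction i with
        | zero => exact hv1
        | succ i ih => rw [pow_succ', MulAut.mul_apply, hinvPi, ih]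
      exact fun x => MonoidHom.mem_ker.1 (hker ▸ Subgroup.mem_top x)
    intro n hn'
    have h1 := hall n
    have hfix : ∀ i : ℕ, (σ ^ i) n = n := by
      intro i
      induction i with
      | zero => rfl
      | succ i ih => rw [pow_succ, MulAut.mul_apply, D.fixed n hn', ih]
    rw [hPi] at h1
    simp only [hfix, Finset.prod_const, Finset.card_range, ← map_pow] at h1
    obtain ⟨k, hk⟩ := D.pg n
    have h2 : ρ n ^ p ^ k = 1 := by rw [← map_pow, hk, map_one]
    rw [map_pow] at h1
    have h3 : ρ n ^ Nat.gcd q (p ^ k) = 1 := pow_gcd_eq_one.2 ⟨h1, h2⟩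
    rw [Nat.Coprime.pow_right k ((Nat.coprime_primes (Fact.out : q.Prime) Fact.out).2 (Ne.symm hpq)), pow_one] at h3
    exact (QuotientGroup.eq_one_iff n).1 h3
  have hNcard : Nat.card N ≤ Nat.card γ.range := by
    refine (Subgroup.card_le_of_le hNN').trans ?_
    exact (Nat.card_congr ((AddSubgroup.toSubgroup γ.range).equivMapOfInjective _ N.subtype_injective).toEquiv).ge
  have htot : Nat.card P = Nat.card (P ⧸ N) * Nat.card N := Subgroup.card_eq_card_quotient_mul_card_subgroup N
  have hζ0 : ζ ≠ 0 := fun h => by rw [h, zero_pow (Fact.out : q.Prime).ne_zero] at hζq; exact zero_ne_one hζq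
  have hinvζ : ζ ^ (q - 1) = ζ⁻¹ := eq_inv_of_mul_eq_one_left (by rw [← pow_succ, Nat.sub_add_cancel hq1, hζq])
  have halt : ∀ w, β w w = 0 := fun w => by
    obtain ⟨x, rfl⟩ := hπs w
    rw [hβ]
    exact Additive.toMul.injective (Subtype.ext (commutatorElement_self x))
  have hKp : CharP K p := charP_of_injective_algebraMap (algebraMap (ZMod p) K).injective p
  haveI := hKp
  haveI := Fintype.ofFinite K
  by_cases hodd : a % 2 = 1
  · rw [if_pos hodd, htot, ← hK]
    have hγ0 : ∀ z, γ z = 0 := by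
      intro z
      obtain ⟨g, rfl⟩ := hsurj z
      by_cases hroot : aeval ζ⁻¹ f = 0
      · -- then `ζ⁻¹ = ζ` and the field is the prime field
        have hι : ∀ (g g' : (ZMod p)[X]), aeval ζ g = aeval ζ g' → aeval ζ⁻¹ g = aeval ζ⁻¹ g' := by
          intro g g' h
          obtain ⟨c, hc⟩ := minpoly.dvd (ZMod p) ζ (p := g - g') (by rw [map_sub, h, sub_self])
          rw [← sub_eq_zero, ← map_sub, hc, map_mul, hroot, zero_mul]
        let ι : K →ₐ[ZMod p] K :=
          { toFun := fun z => aeval ζ⁻¹ (Function.surjInv hsurj z)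
            map_one' := by
              rw [hι _ 1 (by rw [Function.surjInv_eq hsurj, map_one]), map_one]
            map_mul' := fun x y => by
              rw [hι _ (Function.surjInv hsurj x * Function.surjInv hsurj y) (by
                rw [map_mul, Function.surjInv_eq hsurj, Function.surjInv_eq hsurj, Function.surjInv_eq hsurj]),
                map_mul]
            map_zero' := by
              rw [hι _ 0 (by rw [Function.surjInv_eq hsurj, map_zero]), map_zero]
            map_add' := fun x y => by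
              rw [hι _ (Function.surjInv hsurj x + Function.surjInv hsurj y) (by
                rw [map_add, Function.surjInv_eq hsurj, Function.surjInv_eq hsurj, Function.surjInv_eq hsurj]),
                map_add]
            commutes' := fun c => by
              rw [hι _ (C c) (by rw [Function.surjInv_eq hsurj, aeval_C]), aeval_C] }
        have hιζ : ι ζ = ζ⁻¹ := by
          show aeval ζ⁻¹ (Function.surjInv hsurj ζ) = _
          rw [hι _ X (by rw [Function.surjInv_eq hsurj, aeval_X]), aeval_X]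
        have hext : ∀ e : K →ₐ[ZMod p] K, e ζ = ζ → ∀ z, e z = z := fun e he z => by
          obtain ⟨g, rfl⟩ := hsurj z
          rw [← aeval_algHom_apply, he]
        have hι2 : ι.comp ι = AlgHom.id _ K := AlgHom.ext (hext _ (by
          show ι (ι ζ) = ζ; rw [hιζ, map_inv₀, hιζ, inv_inv]))
        let e : K ≃ₐ[ZMod p] K := AlgEquiv.ofAlgHom ι ι hι2 hι2
        haveI : IsGalois (ZMod p) K := GaloisField.instIsGaloisOfFinite
        have hcard : Nat.card (K ≃ₐ[ZMod p] K) = a := by
          rw [IsGalois.card_aut_eq_finrank]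
          have h1 := Module.natCard_eq_pow_finrank (K := ZMod p) (V := K)
          rw [hK, Nat.card_zmod] at h1
          exact (Nat.pow_right_injective (Fact.out : p.Prime).two_le h1).symm
        have he2 : e ^ 2 = 1 := AlgEquiv.ext fun z => by
          rw [pow_two]; exact DFunLike.congr_fun hι2 z
        have he1 : e = 1 := by
          by_contra hne
          have := orderOf_dvd_natCard e
          rw [orderOf_eq_prime he2 hne, hcard] at this
          omega
        have hζι : ζ⁻¹ = ζ := by rw [← hιζ]; exact AlgEquiv.ext_iff.1 he1 ζ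
        -- so `ζ = -1` and `K` is the prime field
        have hz : ∀ g : (ZMod p)[X], ∃ c : ZMod p, aeval ζ g = aeval ζ (C c) := by
          have hm1 : ζ = -1 := by
            have h2 : ζ * ζ = 1 := by nth_rw 1 [← hζι]; exact inv_mul_cancel₀ hζ0
            exact (mul_self_eq_one_iff.1 h2).resolve_left hζ1
          intro g
          refine ⟨g.eval (-1), ?_⟩
          rw [aeval_C, hm1, show (-1 : K) = algebraMap (ZMod p) K (-1) by rw [map_neg, map_one],
            aeval_algebraMap_apply_eq_algebraMap_eval]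
        obtain ⟨c, hc⟩ := hz g
        rw [hc, ← hγ, aeval_C, Module.algebraMap_end_apply, ← ZMod.natCast_zmod_val c,
          Nat.cast_smul_eq_nsmul, map_nsmul, halt, smul_zero]
      · -- `f` evaluated at the inverse is a unit
        obtain ⟨g', hg'⟩ := hsurj ((aeval ζ⁻¹ f)⁻¹ * aeval ζ g)
        have h1 := hγ' f g'
        rw [hf0, hinvζ, hg', ← mul_assoc, mul_inv_cancel₀ hroot, one_mul, LinearMap.zero_apply, map_zero,
          AddMonoidHom.zero_apply] at h1
        exact h1.symm
    have hr : Nat.card γ.range = 1 := by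
      rw [show γ.range = ⊥ from (AddSubgroup.eq_bot_iff_forall _).2 (by rintro y ⟨z, rfl⟩; exact hγ0 z),
        AddSubgroup.card_bot]
    rw [hr] at hNcard
    calc Nat.card (P ⧸ N) * Nat.card N ≤ Nat.card K * 1 := Nat.mul_le_mul hWcard hNcard
      _ = _ := mul_one _
  · rw [if_neg hodd, htot]
    obtain ⟨b, hab⟩ : ∃ b, a = 2 * b := ⟨a / 2, by omega⟩
    obtain ⟨m, hm⟩ : ∃ m, m = p ^ b := ⟨_, rfl⟩
    have hKm : Fintype.card K = m * m := by
      rw [← Nat.card_eq_fintype_card, hK, hm, ← pow_add, hab, two_mul]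
    have ha0 : a ≠ 0 := fun h => by
      rw [h, pow_zero] at hK
      haveI := (Nat.card_eq_one_iff_unique.1 hK).1
      exact hζ1 (Subsingleton.elim _ _)
    have hb0 : 0 < b := by omega
    have hm2 : 2 ≤ m := hm ▸ le_trans (Fact.out : p.Prime).two_le (Nat.le_self_pow hb0.ne' p)
    have hqm : q ∣ m + 1 := by
      have h1 : q ∣ (m + 1) * (m - 1) := by
        rw [← Nat.sq_sub_sq, one_pow, hm, ← pow_mul, mul_comm, ← hab]
        exact hqa
      refine ((Fact.out : q.Prime).dvd_mul.1 h1).resolve_right fun h => ?_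
      have := Nat.le_of_dvd hb0 (hmin b hb0 (hm ▸ h))
      omega
    have hbar : ∀ g : (ZMod p)[X], aeval (ζ ^ (q - 1)) g = (aeval ζ g) ^ m := by
      intro g
      rw [hinvζ]
      have h1 : ζ⁻¹ = ζ ^ m := by
        refine (eq_inv_of_mul_eq_one_left ?_).symm
        obtain ⟨j, hj⟩ := hqm
        rw [← pow_succ, hj, pow_mul, hζq, one_pow]
      rw [h1, hm]
      let F : K →ₐ[ZMod p] K := (FiniteField.frobeniusAlgHom (ZMod p) K) ^ b
      have hF : ∀ z, F z = z ^ p ^ b := fun z => by
        show ((FiniteField.frobeniusAlgHom (ZMod p) K) ^ b) z = _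
        rw [AlgHom.coe_pow, FiniteField.coe_frobeniusAlgHom, pow_iterate, ZMod.card]
      rw [← hF, ← hF, aeval_algHom_apply]
    have hnorm : ∀ z : K, γ (z ^ (m + 1)) = 0 := by
      intro z
      obtain ⟨g, rfl⟩ := hsurj z
      have h1 := hγ' g g
      rw [halt, hbar, ← pow_succ] at h1
      exact h1.symm
    have hker : m ≤ Nat.card γ.ker := by
      classical
      let ν : Kˣ →* Kˣ := powMonoidHom (m + 1)
      have hrange : Nat.card ν.range = m - 1 := by
        have h1 : Nat.card ν.range = Nat.card Kˣ / Nat.gcd (Nat.card Kˣ) (m + 1) :=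
          IsCyclic.card_powMonoidHom_range (G := Kˣ) (m + 1)
        have h2 : Nat.card Kˣ = (m + 1) * (m - 1) := by
          rw [Nat.card_units, Nat.card_eq_fintype_card, hKm, ← Nat.sq_sub_sq, one_pow, pow_two]
        rw [h1, h2, Nat.gcd_mul_right_left, Nat.mul_div_cancel_left _ (by omega)]
      have h3 : ∀ u : ν.range, ((u : Kˣ) : K) ∈ γ.ker := by
        rintro ⟨u, w, rfl⟩
        exact hnorm w
      let em : Option ν.range → γ.ker := fun o => o.elim 0 fun u => ⟨_, h3 u⟩
      have hem : Function.Injective em := by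
        rintro (_ | u) (_ | w) h
        · rfl
        · exact absurd (congrArg Subtype.val h).symm (w : Kˣ).ne_zero
        · exact absurd (congrArg Subtype.val h) (u : Kˣ).ne_zero
        · exact congrArg some (Subtype.ext (Units.ext (congrArg Subtype.val h)))
      have h4 := Nat.card_le_card_of_injective em hem
      haveI := Fintype.ofFinite ν.range
      rw [Nat.card_eq_fintype_card (α := Option ν.range), Fintype.card_option, ← Nat.card_eq_fintype_card, hrange] at h4
      omega
    have hrange : Nat.card γ.range ≤ m := by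
      have h1 := AddSubgroup.card_mul_index γ.ker
      rw [AddSubgroup.index_ker, Nat.card_eq_fintype_card (α := K), hKm] at h1
      by_contra hlt
      push Not at hlt
      have := Nat.mul_le_mul hker hlt
      rw [h1] at this
      nlinarith
    calc Nat.card (P ⧸ N) * Nat.card N ≤ Nat.card K * m :=
          Nat.mul_le_mul hWcard (hNcard.trans hrange)
      _ = p ^ (3 * a / 2) := by
          rw [hK, hm, ← pow_add]; congr 1; omega

end Cfsg.Agent.MaxSchmidt
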