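import Cfsg.Agent.Lib.MaxSchmidt.Main

/-!
# Extracting a datum from an automorphism fixing every proper invariant subgroup
-/

set_option autoImplicit false

namespace Cfsg.Agent.MaxSchmidt

open Polynomial Subgroup
open scoped commutatorElement

/-- The fixed points of an automorphism. -/
def fixedPts {P : Type*} [Group P] (σ : MulAut P) : Subgroup P where
  carrier := {x | σ x = x}
  one_mem' := map_one σ
  mul_mem' {x y} hx hy := by
    show σ (x * y) = x * y
    rw [map_mul, hx, hy]
  inv_mem' {x} hx := by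
    show σ x⁻¹ = x⁻¹
    rw [map_inv, hx]

theorem mem_fixedPts {P : Type*} [Group P] {σ : MulAut P} {x : P} : x ∈ fixedPts σ ↔ σ x = x := Iff.rfl

theorem exists_power_ann {p q : ℕ} [Fact p.Prime] [Fact q.Prime] (hpq : p ≠ q) {K : Type*} [Field K]
    [Algebra (ZMod p) K] [Finite K] (ζ : K) (hζq : ζ ^ q = 1) (hζ1 : ζ ≠ 1)
    {P : Type*} [Group P] [Finite P] (hP : IsPGroup p P) (σ : MulAut P) (hq : σ ^ q = 1) (h1 : σ ≠ 1)
    (hirr : ∀ R : Subgroup P, (∀ r ∈ R, σ r ∈ R) → R ≠ ⊤ → ∀ r ∈ R, σ r = r)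
    (hN : fixedPts σ ≤ center P) (hc : ∀ x y : P, ⁅x, y⁆ ∈ fixedPts σ)
    (hp : ∀ x : P, x ^ p ∈ fixedPts σ) :
    ∃ k, ¬ q ∣ k ∧ ∀ x : P, word (minpoly (ZMod p) ζ) (σ ^ k) x ∈ fixedPts σ := by
  classical
  obtain ⟨N, hNdef⟩ : ∃ N, N = fixedPts σ := ⟨_, rfl⟩
  simp only [← hNdef] at hN hc hp ⊢
  have hfix : ∀ n, n ∈ N ↔ σ n = n := fun n => hNdef ▸ Iff.rfl
  haveI hn : N.Normal := ⟨fun x hx g => by
    rw [Subgroup.mem_center_iff.1 (hN hx) g, mul_inv_cancel_right]; exact hx⟩
  set f := minpoly (ZMod p) ζ with hf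
  letI : CommGroup (P ⧸ N) :=
    { (inferInstance : Group (P ⧸ N)) with
      mul_comm := fun x y => by
        obtain ⟨x, rfl⟩ := QuotientGroup.mk_surjective x
        obtain ⟨y, rfl⟩ := QuotientGroup.mk_surjective y
        rw [← QuotientGroup.mk_mul, ← QuotientGroup.mk_mul, QuotientGroup.eq]
        have := hc y⁻¹ x⁻¹
        rw [commutatorElement_def, inv_inv, inv_inv] at this
        rwa [show (x * y)⁻¹ * (y * x) = y⁻¹ * x⁻¹ * y * x by group] }
  have hp0 : ∀ w : (Additive (P ⧸ N)), p • w = 0 := fun w => by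
    obtain ⟨x, hx⟩ := QuotientGroup.mk_surjective (Additive.toMul w)
    apply Additive.toMul.injective
    rw [toMul_nsmul, ← hx, ← QuotientGroup.mk_pow, toMul_zero, QuotientGroup.eq_one_iff]
    exact hp x
  haveI : Module (ZMod p) (Additive (P ⧸ N)) := AddCommGroup.zmodModule hp0
  let π : P → (Additive (P ⧸ N)) := fun x => Additive.ofMul (x : P ⧸ N)
  have hπs : Function.Surjective π := fun w => by
    obtain ⟨x, hx⟩ := QuotientGroup.mk_surjective (Additive.toMul w)
    exact ⟨x, by show Additive.ofMul _ = w; rw [hx]; exact ofMul_toMul w⟩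
  have hπmul : ∀ x y, π (x * y) = π x + π y := fun x y => rfl
  have hπ1 : π 1 = 0 := rfl
  have hπker : ∀ x, π x = 0 ↔ x ∈ N := fun x => QuotientGroup.eq_one_iff x
  let sA : (Additive (P ⧸ N)) →+ (Additive (P ⧸ N)) := MonoidHom.toAdditive (QuotientGroup.map N N σ.toMonoidHom (fun x hx => by
    show σ x ∈ N; rw [(hfix x).1 hx]; exact hx))
  obtain ⟨s, hsA⟩ : ∃ s : (Additive (P ⧸ N)) →ₗ[ZMod p] (Additive (P ⧸ N)), ∀ w, s w = sA w := ⟨AddMonoidHom.toZModLinearMap p sA, fun _ => rfl⟩
  have hs : ∀ x : P, s (π x) = π (σ x) := fun x => hsA _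
  have hspow : ∀ (n : ℕ) x, (s ^ n) (π x) = π ((σ ^ n) x) := by
    intro n
    induction n with
    | zero => intro x; rfl
    | succ n ih => intro x; rw [pow_succ, Module.End.mul_apply, hs, ih, pow_succ, MulAut.mul_apply]
  have hsq : s ^ q = 1 := LinearMap.ext fun w => by
    obtain ⟨x, rfl⟩ := hπs w; rw [hspow, hq]; rfl
  have hword : ∀ (k : ℕ) (g : (ZMod p)[X]) x, π (word g (σ ^ k) x) = aeval (s ^ k) g (π x) := by
    intro k g x
    rw [aeval_eq_sum_range, LinearMap.sum_apply]
    have hlist : ∀ n, π (((List.range n).map fun i => (((σ ^ k) ^ i) x) ^ (g.coeff i).val).prod) =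
        ∑ i ∈ Finset.range n, (g.coeff i • (s ^ k) ^ i) (π x) := by
      intro n
      induction n with
      | zero => rfl
      | succ n ih =>
        rw [List.range_succ, List.map_append, List.prod_append, hπmul, ih, Finset.sum_range_succ]
        congr 1
        rw [List.map_singleton, List.prod_singleton, LinearMap.smul_apply, ← pow_mul s, hspow,
          ← ZMod.natCast_zmod_val (g.coeff n), Nat.cast_smul_eq_nsmul, ZMod.natCast_zmod_val, ← pow_mul]
        rfl
    exact hlist _
  -- irreducibility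
  have hdich : ∀ g : (ZMod p)[X], Function.Injective (aeval s g) ∨ aeval s g = 0 := by
    intro g
    let R : Subgroup P :=
      { carrier := {x | aeval s g (π x) = 0}
        one_mem' := by show aeval s g (π 1) = 0; rw [hπ1, map_zero]
        mul_mem' := fun {x y} hx hy => by
          show aeval s g (π (x * y)) = 0
          rw [hπmul, map_add, hx, hy, add_zero]
        inv_mem' := fun {x} hx => by
          show aeval s g (π x⁻¹) = 0
          have h := hπmul x⁻¹ x
          rw [inv_mul_cancel, hπ1] at h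
          rw [eq_neg_of_add_eq_zero_left h.symm, map_neg, hx, neg_zero] }
    by_cases htop : R = ⊤
    · exact Or.inr (LinearMap.ext fun w => by
        obtain ⟨x, rfl⟩ := hπs w
        exact (htop ▸ mem_top x : x ∈ R))
    · left
      rw [← LinearMap.ker_eq_bot, LinearMap.ker_eq_bot']
      intro w hw
      obtain ⟨x, rfl⟩ := hπs w
      refine (hπker x).2 ((hfix x).2 (hirr R ?_ htop x hw))
      intro y hy
      show aeval s g (π (σ y)) = 0
      have hcomm : aeval s g * s = s * aeval s g := by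
        have h2 : aeval s (g * X) = aeval s (X * g) := by rw [mul_comm]
        rwa [map_mul, map_mul, aeval_X] at h2
      rw [← hs, ← Module.End.mul_apply, hcomm, Module.End.mul_apply, hy, map_zero]
  -- no fixed vectors
  have hs1 : Function.Injective (aeval s (X - 1 : (ZMod p)[X])) := by
    rw [map_sub, aeval_X, map_one, ← LinearMap.ker_eq_bot, LinearMap.ker_eq_bot']
    intro w hw
    obtain ⟨x, rfl⟩ := hπs w
    rw [LinearMap.sub_apply, Module.End.one_apply, sub_eq_zero, hs] at hw
    refine (hπker x).2 ((hfix x).2 (fixed_modulo hpq σ N hP (fun n hn => (hfix n).1 hn) hq ?_))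
    exact QuotientGroup.eq.1 (Additive.ofMul.injective hw).symm
  have hntw : ∃ w : Additive (P ⧸ N), w ≠ 0 := by
    by_contra hall
    push_neg at hall
    exact h1 (MulEquiv.ext fun x => (hfix x).1 ((hπker x).1 (hall _)))
  -- the product over all powers vanishes
  have hprod : (X ^ q - 1 : (ZMod p)[X]) ∣ (X - 1) * ∏ k ∈ Finset.Ico 1 q, f.comp (X ^ k) := by
    rw [← map_dvd_map' (algebraMap (ZMod p) K), Polynomial.map_sub, Polynomial.map_pow, map_X,
      Polynomial.map_one]
    have hprim : IsPrimitiveRoot ζ q := by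
      rw [← orderOf_eq_prime hζq hζ1]
      exact IsPrimitiveRoot.orderOf ζ
    rw [X_pow_sub_one_eq_prod (Fact.out : q.Prime).pos hprim]
    refine Finset.prod_dvd_of_coprime (fun x _ y _ hxy => pairwise_coprime_X_sub_C Function.injective_id hxy) ?_
    intro z hz
    rw [mem_nthRootsFinset (Fact.out : q.Prime).pos] at hz
    rw [dvd_iff_isRoot, IsRoot, eval_map_algebraMap, map_mul]
    by_cases hz1 : z = 1
    · rw [hz1, map_sub, aeval_X, map_one, sub_self, zero_mul]
    · have hzp : IsPrimitiveRoot z q := by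
        rw [← orderOf_eq_prime hz hz1]
        exact IsPrimitiveRoot.orderOf z
      obtain ⟨k, hkq, hk⟩ := hzp.eq_pow_of_pow_eq_one hζq
      have hk0 : 1 ≤ k := by
        rcases Nat.eq_zero_or_pos k with rfl | hk0
        · rw [pow_zero] at hk; exact absurd hk.symm hζ1
        · exact hk0
      rw [map_prod, Finset.prod_eq_zero (Finset.mem_Ico.2 ⟨hk0, hkq⟩), mul_zero]
      rw [aeval_comp, map_pow, aeval_X, hk, hf]
      exact minpoly.aeval _ _
  obtain ⟨k, hkI, hk⟩ : ∃ k ∈ Finset.Ico 1 q, aeval s (f.comp (X ^ k)) = 0 := by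
    by_contra hno
    push_neg at hno
    have hinj : Function.Injective (aeval s ((X - 1) * ∏ k ∈ Finset.Ico 1 q, f.comp (X ^ k))) := by
      rw [map_mul, Module.End.mul_eq_comp, LinearMap.coe_comp]
      refine hs1.comp ?_
      refine Finset.prod_induction _ (fun g : (ZMod p)[X] => Function.Injective (aeval s g)) ?_ ?_ ?_
      · intro g g' hg hg'
        rw [map_mul, Module.End.mul_eq_comp, LinearMap.coe_comp]
        exact hg.comp hg'
      · rw [map_one]; exact fun x y h => h
      · intro k hk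
        exact (hdich _).resolve_right (hno k hk)
    obtain ⟨c, hc'⟩ := hprod
    rw [hc', map_mul, map_sub, map_pow, aeval_X, map_one, hsq, sub_self, zero_mul] at hinj
    obtain ⟨w, hw⟩ := hntw
    exact hw (hinj (by rw [LinearMap.zero_apply, LinearMap.zero_apply]))
  obtain ⟨hk1, hkq⟩ := Finset.mem_Ico.1 hkI
  refine ⟨k, fun hdvd => absurd (Nat.le_of_dvd hk1 hdvd) (by omega), fun x => ?_⟩
  rw [← hπker, hword, show s ^ k = aeval s (X ^ k : (ZMod p)[X]) by rw [map_pow, aeval_X],
    ← aeval_comp, hk, LinearMap.zero_apply]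

theorem exists_datum {p q : ℕ} [Fact p.Prime] [Fact q.Prime] (hpq : p ≠ q) {K : Type*} [Field K]
    [Algebra (ZMod p) K] [Finite K] (ζ : K) (hζq : ζ ^ q = 1) (hζ1 : ζ ≠ 1)
    {P : Type*} [Group P] [Finite P] (hP : IsPGroup p P) (σ : MulAut P) (hq : σ ^ q = 1) (h1 : σ ≠ 1)
    (hirr : ∀ R : Subgroup P, (∀ r ∈ R, σ r ∈ R) → R ≠ ⊤ → ∀ r ∈ R, σ r = r) :
    ∃ k, ¬ q ∣ k ∧ ∃ v N, Datum q (minpoly (ZMod p) ζ) (σ ^ k) v N := by
  classical
  obtain ⟨N, hNdef⟩ : ∃ N, N = fixedPts σ := ⟨_, rfl⟩
  have hfix : ∀ n, n ∈ N ↔ σ n = n := fun n => hNdef ▸ Iff.rfl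
  have hle : ∀ R : Subgroup P, (∀ r ∈ R, σ r ∈ R) → R ≠ ⊤ → R ≤ N := fun R hR hne r hr =>
    (hfix r).2 (hirr R hR hne r hr)
  haveI : Nontrivial P := by
    by_contra hn
    rw [not_nontrivial_iff_subsingleton] at hn
    exact h1 (MulEquiv.ext fun x => Subsingleton.elim _ _)
  haveI hnil : Group.IsNilpotent P := hP.isNilpotent
  have hcomne : commutator P ≠ ⊤ := (IsSolvable.commutator_lt_top_of_nontrivial P).ne
  have hc : ∀ x y : P, ⁅x, y⁆ ∈ N := by
    intro x y
    refine hle (commutator P) ?_ hcomne (Subgroup.commutator_mem_commutator (mem_top x) (mem_top y))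
    intro r hr
    have : commutator P ≤ (commutator P).comap σ.toMonoidHom := by
      rw [commutator_def, Subgroup.commutator_le]
      intro a _ b _
      rw [Subgroup.mem_comap, map_commutatorElement]
      exact Subgroup.commutator_mem_commutator (mem_top _) (mem_top _)
    exact this hr
  haveI hnN : N.Normal := ⟨fun n hn g => by
    rw [show g * n * g⁻¹ = ⁅g, n⁆ * n by rw [commutatorElement_def, inv_mul_cancel_right]]
    exact N.mul_mem (hc g n) hn⟩
  have hcen : N ≤ center P := by
    intro n hn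
    let C := centralizer ({n} : Set P)
    by_cases hC : C = ⊤
    · exact mem_center_iff.2 fun g => (mem_centralizer_singleton_iff.1 (hC ▸ mem_top g : g ∈ C))
    · exfalso
      have hCN : C ≤ N := hle C (fun r hr => mem_centralizer_singleton_iff.2 (by
        have := congrArg σ (mem_centralizer_singleton_iff.1 hr)
        rwa [map_mul, map_mul, (hfix n).1 hn] at this)) hC
      refine h1 (MulEquiv.ext fun x => ?_)
      refine fixed_modulo hpq σ N hP (fun m hm => (hfix m).1 hm) hq (hCN (mem_centralizer_singleton_iff.2 ?_))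
      have h2 := (hfix _).1 (hnN.conj_mem n hn x)
      rw [map_mul, map_mul, map_inv, (hfix n).1 hn] at h2
      calc x⁻¹ * σ x * n = x⁻¹ * (σ x * n * (σ x)⁻¹) * σ x := by group
        _ = x⁻¹ * (x * n * x⁻¹) * σ x := by rw [h2]
        _ = n * (x⁻¹ * σ x) := by group
  have hp : ∀ x : P, x ^ p ∈ N := by
    let R : Subgroup P := ((powMonoidHom p : Abelianization P →* Abelianization P).range).comap Abelianization.of
    intro x
    refine hle R ?_ ?_ ⟨Abelianization.of x, (map_pow _ x p).symm⟩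
    · rintro r ⟨z, hz⟩
      refine ⟨Abelianization.map σ.toMonoidHom z, ?_⟩
      rw [powMonoidHom_apply] at hz ⊢
      rw [← map_pow, hz, Abelianization.map_of]
      rfl
    · intro htop
      have hs : Function.Surjective (powMonoidHom p : Abelianization P →* Abelianization P) := by
        intro z
        obtain ⟨y, rfl⟩ : ∃ y, Abelianization.of y = z := QuotientGroup.mk_surjective z
        exact (htop ▸ mem_top y : y ∈ R)
      have hA : IsPGroup p (Abelianization P) := hP.to_quotient _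
      have hnt : Nontrivial (Abelianization P) := by
        rw [← not_subsingleton_iff_nontrivial]
        intro hsub
        apply hcomne
        rw [eq_top_iff]
        intro y _
        rw [← Abelianization.ker_of]
        exact Subsingleton.elim (α := Abelianization P) _ _
      obtain ⟨m, hm0, hm⟩ := hA.nontrivial_iff_card.1 hnt
      obtain ⟨z, hz⟩ := exists_prime_orderOf_dvd_card' (G := Abelianization P) p (hm ▸ dvd_pow_self p hm0.ne')
      have hinj := (Finite.injective_iff_surjective (f := powMonoidHom p)).2 hs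
      have : z = 1 := hinj (by simp [← hz, pow_orderOf_eq_one])
      rw [this, orderOf_one] at hz
      exact (Fact.out : p.Prime).ne_one hz.symm
  obtain ⟨k, hk, hann⟩ := exists_power_ann hpq ζ hζq hζ1 hP σ hq h1 hirr (hNdef ▸ hcen) (hNdef ▸ hc) (hNdef ▸ hp)
  rw [← hNdef] at hann
  have hfk : ∀ (i : ℕ) n, n ∈ N → (σ ^ i) n = n := by
    intro i n hn
    induction i with
    | zero => rfl
    | succ i ih => rw [pow_succ, MulAut.mul_apply, (hfix n).1 hn, ih]
  have hqk : (σ ^ k) ^ q = 1 := by rw [← pow_mul, mul_comm, pow_mul, hq, one_pow]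
  have hkc : k.Coprime q := ((Fact.out : q.Prime).coprime_iff_not_dvd.2 hk).symm
  obtain ⟨j, -, hj⟩ := Nat.exists_mul_mod_eq_one_of_coprime hkc (Fact.out : q.Prime).one_lt
  have hjσ : (σ ^ k) ^ j = σ := by
    rw [← pow_mul, ← Nat.mod_add_div (k * j) q, pow_add, pow_mul σ q, hq, one_pow, mul_one, hj, pow_one]
  obtain ⟨u, hu⟩ : ∃ u, u ∉ N := by
    by_contra hall
    push_neg at hall
    exact h1 (MulEquiv.ext fun x => (hfix x).1 (hall x))
  refine ⟨k, hk, u⁻¹ * (σ ^ k) u, N, hP, hcen, fun n hn => hfk k n hn, hc, hp, hqk, ?_, ?_, hann⟩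
  · rw [orbitProd_twist, hqk, MulAut.one_apply, inv_mul_cancel]
  · by_contra hgen
    have hinvk : ∀ z ∈ closure (Set.range fun i : ℕ => ((σ ^ k) ^ i) (u⁻¹ * (σ ^ k) u)),
        (σ ^ k) z ∈ closure (Set.range fun i : ℕ => ((σ ^ k) ^ i) (u⁻¹ * (σ ^ k) u)) := by
      intro z hz
      have : closure (Set.range fun i : ℕ => ((σ ^ k) ^ i) (u⁻¹ * (σ ^ k) u)) ≤
          (closure (Set.range fun i : ℕ => ((σ ^ k) ^ i) (u⁻¹ * (σ ^ k) u))).comap (σ ^ k).toMonoidHom := by
        rw [closure_le]
        rintro y ⟨i, rfl⟩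
        refine subset_closure ⟨i + 1, ?_⟩
        show ((σ ^ k) ^ (i + 1)) _ = (σ ^ k) (((σ ^ k) ^ i) _)
        rw [pow_succ', MulAut.mul_apply]
      exact this hz
    have hinv : ∀ i, ∀ z ∈ closure (Set.range fun i : ℕ => ((σ ^ k) ^ i) (u⁻¹ * (σ ^ k) u)),
        ((σ ^ k) ^ i) z ∈ closure (Set.range fun i : ℕ => ((σ ^ k) ^ i) (u⁻¹ * (σ ^ k) u)) := by
      intro i
      induction i with
      | zero => intro z hz; exact hz
      | succ i ih => intro z hz; rw [pow_succ', MulAut.mul_apply]; exact hinvk _ (ih z hz)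
    have hsub := hle _ (fun z hz => by
      have := hinv j z hz
      rwa [hjσ] at this) hgen
    have hv : u⁻¹ * (σ ^ k) u ∈ N := hsub (subset_closure ⟨0, rfl⟩)
    have hfixu := fixed_modulo hpq (σ ^ k) N hP (fun n hn => hfk k n hn) hqk hv
    apply hu
    rw [hfix, ← hjσ]
    clear hinv hsub hgen
    have : ∀ i, ((σ ^ k) ^ i) u = u := by
      intro i
      induction i with
      | zero => rfl
      | succ i ih => rw [pow_succ, MulAut.mul_apply, hfixu, ih]
    exact this j

end Cfsg.Agent.MaxSchmidt
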