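import Cfsg.Agent.Lib.MaxSchmidt.Main

/-!
# Properties of the maximal Schmidt group
-/

set_option autoImplicit false

namespace Cfsg.Agent.MaxSchmidt

open Subgroup Polynomial
open scoped commutatorElement

/-- The homomorphism from a finite cyclic group given by the image of its generator. -/
def powHom {M : Type*} [Monoid M] (n : ℕ) [NeZero n] (y : M) (h : y ^ n = 1) :
    Multiplicative (ZMod n) →* M where
  toFun c := y ^ c.toAdd.val
  map_one' := by simp
  map_mul' c d := by
    show y ^ (c.toAdd + d.toAdd).val = _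
    rw [ZMod.val_add, ← pow_add]
    conv_rhs => rw [← Nat.mod_add_div (c.toAdd.val + d.toAdd.val) n, pow_add, pow_mul, h, one_pow, mul_one]

theorem powHom_apply {M : Type*} [Monoid M] (n : ℕ) [NeZero n] (y : M) (h : y ^ n = 1)
    (c : Multiplicative (ZMod n)) : powHom n y h c = y ^ c.toAdd.val := rfl

/-- A power with exponent prime to the order generates. -/
theorem pow_inv_exp {M : Type*} [Monoid M] {n k : ℕ} (hn : 1 < n) (hk : k.Coprime n) (y : M)
    (hy : y ^ n = 1) : ∃ j, (y ^ k) ^ j = y := by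
  obtain ⟨j, -, hj⟩ := Nat.exists_mul_mod_eq_one_of_coprime hk hn
  refine ⟨j, ?_⟩
  rw [← pow_mul, ← Nat.mod_add_div (k * j) n, pow_add, pow_mul y n, hy, one_pow, mul_one, hj, pow_one]

variable {p q r a : ℕ} [Fact p.Prime] [Fact q.Prime] {f : (ZMod p)[X]} {H : Type*} [Group H] [Finite H]
  {σ : MulAut H} {v : H} {N : Subgroup H}

theorem minimal_of_datum (hpq : p ≠ q) (hr : 1 ≤ r) (hmin : ∀ d, 0 < d → q ∣ p ^ d - 1 → a ∣ d)
    (D : Datum q f σ v N) (hidx : N.index ≤ p ^ a) (hnt : Nontrivial H) {G : Type*} [Group G] [Finite G]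
    (ι : H →* G) (hι : Function.Injective ι) (π : G →* Multiplicative (ZMod (q ^ r))) (hker : π.ker = ι.range)
    (t : G) (hπt : π t = Multiplicative.ofAdd 1) (ht : t ^ (q ^ r) = 1)
    (hconj : ∀ h, t * ι h * t⁻¹ = ι (σ h)) :
    ¬ Cfsg.HasNormalPComplement p G ∧ ∀ K : Subgroup G, K ≠ ⊤ → Cfsg.HasNormalPComplement p ↥K := by
  classical
  have hq : q.Prime := Fact.out
  haveI : NeZero (q ^ r) := ⟨pow_ne_zero r hq.ne_zero⟩
  have hqr : 1 < q ^ r := Nat.one_lt_pow (by omega) hq.one_lt
  have hcop : q.Coprime p := (Nat.coprime_primes hq Fact.out).2 (Ne.symm hpq)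
  have hrange : IsPGroup p ι.range := fun x => by
    obtain ⟨_, h, rfl⟩ := x
    obtain ⟨k, hk⟩ := D.pg h
    exact ⟨k, Subtype.ext (by rw [SubmonoidClass.coe_pow, ← map_pow, hk, map_one]; rfl)⟩
  have hconjpow : ∀ (i : ℕ) (h : H), t ^ i * ι h * (t ^ i)⁻¹ = ι ((σ ^ i) h) := by
    intro i
    induction i with
    | zero => intro h; simp
    | succ i ih =>
      intro h
      rw [pow_succ', pow_succ' σ, MulAut.mul_apply, ← hconj, ← ih]
      group
  have hto : (orderOf t).Coprime p :=
    Nat.Coprime.coprime_dvd_left (orderOf_dvd_of_pow_eq_one ht) (Nat.Coprime.pow_left r hcop)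
  refine ⟨fun hG => ?_, fun K hK => Cfsg.Agent.Transfer.hasNormalPComplement_of_frobenius ?_⟩
  · haveI : ι.range.Normal := hker ▸ π.normal_ker
    have hn : t ∈ normalizer (ι.range : Set G) := normalizer_eq_top (ι.range) ▸ mem_top t
    have hc := Cfsg.Agent.Transfer.centralizes_of_hasNormalPComplement hG ι.range hrange t hn hto
    have h1 : σ v = v := hι (by
      rw [← hconj, ← (hc (ι v) ⟨v, rfl⟩), mul_inv_cancel_right])
    have h2 : v ∈ N := fixed_mem hpq D h1
    have h3 : ∀ x : H, x ∈ N := fun x =>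
      (closure_le N).2 (by rintro y ⟨i, rfl⟩; show (σ ^ i) v ∈ N; rw [D.pow_fix i h2]; exact h2) (D.gen ▸ mem_top x)
    have h4 : v = 1 := by
      have h5 : v ^ q = 1 := by
        have : ∀ n, orbitProd σ n v = v ^ n := by
          intro n
          induction n with
          | zero => simp [orbitProd]
          | succ n ih =>
            rw [orbitProd, List.range_succ, List.map_append, List.prod_append, List.map_singleton,
              List.prod_singleton, D.pow_fix n h2, pow_succ, ← ih, orbitProd]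
        rw [← this]; exact D.tele
      obtain ⟨k, hk⟩ := D.pg v
      have := pow_gcd_eq_one.2 ⟨h5, hk⟩
      rwa [Nat.Coprime.pow_right k hcop, pow_one] at this
    obtain ⟨x, hx⟩ := exists_ne (1 : H)
    refine hx (Subgroup.mem_bot.1 ((closure_le (⊥ : Subgroup H)).2 ?_ (D.gen ▸ mem_top x)))
    rintro y ⟨i, rfl⟩
    show (σ ^ i) v ∈ (⊥ : Subgroup H)
    rw [h4, map_one]; exact one_mem _
  · intro Dg hDg g hg hgo
    have hdec : (g : G) * (t ^ (π g).toAdd.val)⁻¹ ∈ ι.range := by
      rw [← hker, MonoidHom.mem_ker, map_mul, map_inv, map_pow, hπt, ← ofAdd_nsmul, nsmul_one,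
        ZMod.natCast_zmod_val, ofAdd_toAdd, mul_inv_cancel]
    obtain ⟨h, hh⟩ := hdec
    set i := (π g).toAdd.val with hi
    have hg' : (g : G) = ι h * t ^ i := by rw [hh, inv_mul_cancel_right]
    have hDsub : ∀ d ∈ Dg, ∃ x, ι x = (d : G) := by
      intro d hd
      obtain ⟨k, hk⟩ := hDg ⟨d, hd⟩
      have h1 : (d : G) ^ p ^ k = 1 := congrArg (fun z : Dg => ((z : K) : G)) hk
      have h2 : π (d : G) = 1 := by
        have a1 : π (d : G) ^ p ^ k = 1 := by rw [← map_pow, h1, map_one]
        have a2 : π (d : G) ^ (q ^ r) = 1 := by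
          have hc : Nat.card (Multiplicative (ZMod (q ^ r))) = q ^ r :=
            (Nat.card_congr Multiplicative.toAdd).trans (Nat.card_zmod _)
          have := pow_card_eq_one' (x := π (d : G))
          rwa [hc] at this
        have := pow_gcd_eq_one.2 ⟨a2, a1⟩
        rwa [(Nat.Coprime.pow_left r hcop).pow_right k, pow_one] at this
      have : (d : G) ∈ ι.range := hker ▸ h2
      exact this
    have hcent : (∀ x : H, ι x ∈ K → Commute (g : G) (ι x)) → g ∈ centralizer (Dg : Set K) := by
      intro hall d hd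
      obtain ⟨x, hx⟩ := hDsub d hd
      apply Subtype.ext
      show (d : G) * g = g * d
      rw [← hx]
      exact (hall x (by rw [hx]; exact d.2)).eq.symm
    apply hcent
    by_cases hqi : q ∣ i
    · have hσi : σ ^ i = 1 := by
        obtain ⟨c, hc⟩ := hqi
        rw [hc, pow_mul, D.ord, one_pow]
      have hcomm : ∀ x, Commute (t ^ i) (ι x) := fun x => by
        have := hconjpow i x
        rw [hσi, MulAut.one_apply, mul_inv_eq_iff_eq_mul] at this
        exact this
      have hn1 : (g : G) ^ orderOf g = 1 := by rw [← SubmonoidClass.coe_pow, pow_orderOf_eq_one]; rfl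
      have hti : (t ^ i) ^ orderOf g = 1 := by
        rw [← pow_mul]
        have h1 := congrArg π hn1
        rw [map_pow, map_one, ← ofAdd_toAdd (π g), ← ofAdd_nsmul, ofAdd_eq_one, ← ZMod.natCast_zmod_val (π g).toAdd,
          ← hi, nsmul_eq_mul, ← Nat.cast_mul, ZMod.natCast_eq_zero_iff] at h1
        obtain ⟨c, hc⟩ := h1
        rw [mul_comm, hc, pow_mul, ht, one_pow]
      rw [hg', (hcomm h).symm.mul_pow, hti, mul_one] at hn1
      have h1' : h ^ orderOf g = 1 := hι (by rw [map_pow, hn1, map_one])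
      obtain ⟨k, hk⟩ := D.pg h
      have h2 := pow_gcd_eq_one.2 ⟨h1', hk⟩
      rw [hgo.pow_right k, pow_one] at h2
      intro x _
      rw [hg', h2, map_one, one_mul]
      exact hcomm x
    · have hci : i.Coprime (q ^ r) := Nat.Coprime.pow_right r ((hq.coprime_iff_not_dvd.2 hqi).symm)
      obtain ⟨j, hj⟩ := pow_inv_exp hq.one_lt ((hq.coprime_iff_not_dvd.2 hqi).symm) σ D.ord
      let R : Subgroup H := K.comap ι
      have hmove : ∀ x ∈ R, h * (σ ^ i) x * h⁻¹ ∈ R := by
        intro x hx
        show ι _ ∈ K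
        rw [map_mul, map_mul, map_inv, ← hconjpow,
          show ι h * (t ^ i * ι x * (t ^ i)⁻¹) * (ι h)⁻¹ = (g : G) * ι x * (g : G)⁻¹ by rw [hg']; group]
        exact K.mul_mem (K.mul_mem g.2 hx) (K.inv_mem g.2)
      have hiter : ∀ S : Subgroup H, (∀ x ∈ S, (σ ^ i) x ∈ S) → ∀ x ∈ S, σ x ∈ S := by
        intro S hS x hx
        suffices H1 : ∀ n, ((σ ^ i) ^ n) x ∈ S by rw [← hj]; exact H1 j
        intro n
        induction n with
        | zero => exact hx
        | succ n ih => rw [pow_succ', MulAut.mul_apply]; exact hS _ ih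
      haveI := D.normal
      have hRN : ∀ x ∈ R ⊔ N, (σ ^ i) x ∈ R ⊔ N := by
        intro x hx
        rw [← SetLike.mem_coe, mul_normal] at hx
        obtain ⟨x, hxR, n, hn, rfl⟩ := Set.mem_mul.1 hx
        rw [map_mul, D.pow_fix i hn]
        refine mul_mem ?_ (mem_sup_right hn)
        rw [show (σ ^ i) x = (h * (σ ^ i) x * h⁻¹) * ⁅h, ((σ ^ i) x)⁻¹⁆ by
          simp only [commutatorElement_def]; group]
        exact mul_mem (mem_sup_left (hmove x hxR)) (mem_sup_right (D.comm _ _))
      have hsmall : R ≤ N → ∀ x : H, ι x ∈ K → Commute (g : G) (ι x) := by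
        intro hle x hx
        have hxN : x ∈ N := hle hx
        have h1 := hconjpow i x
        rw [D.pow_fix i hxN, mul_inv_eq_iff_eq_mul] at h1
        rw [hg']
        refine Commute.mul_left ?_ h1
        show _ = _
        rw [← map_mul, ← map_mul, mem_center_iff.1 (D.central hxN) h]
      rcases D.dichotomy hpq hmin hidx (R ⊔ N) (hiter _ hRN) with hle | htop
      · exact hsmall (le_sup_left.trans hle)
      · have hdec : ∀ x : H, ∃ b ∈ R, ∃ n ∈ N, x = b * n := by
          intro x
          have hx : x ∈ R ⊔ N := htop ▸ mem_top x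
          rw [← SetLike.mem_coe, mul_normal] at hx
          obtain ⟨b, hb, n, hn, e⟩ := Set.mem_mul.1 hx
          exact ⟨b, hb, n, hn, e.symm⟩
        have hRn : ∀ x ∈ R, ∀ z, z * x * z⁻¹ ∈ R := by
          intro x hx z
          obtain ⟨b, hb, n, hn, rfl⟩ := hdec z
          rw [mul_inv_rev, show b * n * x * (n⁻¹ * b⁻¹) = b * (n * x * n⁻¹) * b⁻¹ by group,
            ← mem_center_iff.1 (D.central hn) x, mul_inv_cancel_right]
          exact R.mul_mem (R.mul_mem hb hx) (R.inv_mem hb)
        have hRσ : ∀ x ∈ R, (σ ^ i) x ∈ R := by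
          intro x hx
          have := hRn _ (hmove x hx) h⁻¹
          rwa [show h⁻¹ * (h * (σ ^ i) x * h⁻¹) * h⁻¹⁻¹ = (σ ^ i) x by group] at this
        rcases D.dichotomy hpq hmin hidx R (hiter _ hRσ) with hle | htopR
        · exact hsmall hle
        · exfalso
          apply hK
          have hιK : ∀ x, ι x ∈ K := fun x => (htopR ▸ mem_top x : x ∈ R)
          have htK : t ∈ K := by
            obtain ⟨j', hj'⟩ := pow_inv_exp hqr hci t ht
            rw [← hj']
            refine K.pow_mem ?_ j'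
            rw [show t ^ i = (ι h)⁻¹ * (g : G) by rw [hg', inv_mul_cancel_left]]
            exact K.mul_mem (K.inv_mem (hιK h)) g.2
          rw [eq_top_iff]
          intro z _
          have : z * (t ^ (π z).toAdd.val)⁻¹ ∈ ι.range := by
            rw [← hker, MonoidHom.mem_ker, map_mul, map_inv, map_pow, hπt, ← ofAdd_nsmul, nsmul_one,
              ZMod.natCast_zmod_val, ofAdd_toAdd, mul_inv_cancel]
          obtain ⟨x, hx⟩ := this
          rw [show z = ι x * t ^ (π z).toAdd.val by rw [hx, inv_mul_cancel_right]]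
          exact K.mul_mem (hιK x) (K.pow_mem htK _)

end Cfsg.Agent.MaxSchmidt
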