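import Cfsg.Agent.Lib.MaxSchmidt.Model
import Cfsg.Agent.Lib.Transfer.Hall
import Cfsg.Agent.Lib.Transfer.Fusion
import Cfsg.Agent.Lib.Basics.Schmidt
import Cfsg.Agent.S0132
import Cfsg.Prelude.Def_Transfer

/-!
# The maximal Schmidt group
-/

set_option autoImplicit false

namespace Cfsg.Agent.MaxSchmidt

open Polynomial
open scoped commutatorElement

theorem exists_field (p q : ℕ) [Fact p.Prime] [Fact q.Prime] (hpq : p ≠ q) :
    0 < orderOf (p : ZMod q) ∧ q ∣ p ^ orderOf (p : ZMod q) - 1 ∧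
      (∀ d, 0 < d → q ∣ p ^ d - 1 → orderOf (p : ZMod q) ∣ d) ∧
      ∃ ζ : (GaloisField p (orderOf (p : ZMod q)))ˣ, ζ ^ q = 1 ∧ ζ ≠ 1 ∧
        Function.Surjective (aeval (R := ZMod p) (ζ : GaloisField p (orderOf (p : ZMod q)))) := by
  classical
  have hp : p.Prime := Fact.out
  have hq : q.Prime := Fact.out
  set a := orderOf (p : ZMod q) with ha
  have hpu : (p : ZMod q) ≠ 0 := fun h => hpq
    (((Nat.prime_dvd_prime_iff_eq hq hp).1 ((ZMod.natCast_eq_zero_iff p q).1 h)).symm)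
  have hiff : ∀ d, q ∣ p ^ d - 1 ↔ (p : ZMod q) ^ d = 1 := fun d => by
    rw [← ZMod.natCast_eq_zero_iff, Nat.cast_sub (Nat.one_le_pow _ _ hp.pos), Nat.cast_one, Nat.cast_pow,
      sub_eq_zero]
  have hfin : IsOfFinOrder (p : ZMod q) :=
    isOfFinOrder_iff_pow_eq_one.2 ⟨q - 1, by have := hq.two_le; omega, ZMod.pow_card_sub_one_eq_one hpu⟩
  have ha0 : 0 < a := hfin.orderOf_pos
  have hqa : q ∣ p ^ a - 1 := (hiff a).2 (pow_orderOf_eq_one _)
  have hmin : ∀ d, 0 < d → q ∣ p ^ d - 1 → a ∣ d := fun d _ h => orderOf_dvd_of_pow_eq_one ((hiff d).1 h)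
  refine ⟨ha0, hqa, hmin, ?_⟩
  let K := GaloisField p a
  haveI : Fintype K := Fintype.ofFinite K
  have hK : Nat.card K = p ^ a := GaloisField.card p a ha0.ne'
  obtain ⟨ζ, hζ⟩ := exists_prime_orderOf_dvd_card' (G := Kˣ) q (by rw [Nat.card_units, hK]; exact hqa)
  have hζq : ζ ^ q = 1 := hζ ▸ pow_orderOf_eq_one ζ
  refine ⟨ζ, hζq, fun h => by rw [h, orderOf_one] at hζ; exact hq.ne_one hζ.symm, ?_⟩
  let S : Subalgebra (ZMod p) K := (aeval (R := ZMod p) (ζ : K)).range
  obtain ⟨d, hd⟩ : ∃ d, Nat.card S = p ^ d := ⟨_, by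
    rw [Module.natCard_eq_pow_finrank (K := ZMod p) (V := S), Nat.card_zmod]⟩
  let U : Subgroup Kˣ :=
    { carrier := {u | (u : K) ∈ S}
      one_mem' := by simp [S.one_mem]
      mul_mem' := fun {u w} hu hw => by simp [S.mul_mem hu hw]
      inv_mem' := fun {u} hu => by
        have : u⁻¹ = u ^ (orderOf u - 1) := inv_eq_of_mul_eq_one_right (by
          rw [← pow_succ', Nat.sub_add_cancel (orderOf_pos u), pow_orderOf_eq_one])
        show ((u⁻¹ : Kˣ) : K) ∈ S
        rw [this, Units.val_pow_eq_pow_val]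
        exact S.pow_mem hu _ }
  have hζU : ζ ∈ U := ⟨X, aeval_X _⟩
  have hU : Nat.card U + 1 = Nat.card S := by
    haveI := Fintype.ofFinite U
    haveI := Fintype.ofFinite S
    rw [Nat.card_eq_fintype_card, Nat.card_eq_fintype_card, ← Fintype.card_option]
    refine Fintype.card_congr (Equiv.ofBijective (fun o : Option U => o.elim (0 : S) fun u => ⟨_, u.2⟩) ⟨?_, ?_⟩)
    · rintro (_ | u) (_ | w) h
      · rfl
      · exact absurd (congrArg Subtype.val h).symm (w : Kˣ).ne_zero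
      · exact absurd (congrArg Subtype.val h) (u : Kˣ).ne_zero
      · exact congrArg some (Subtype.ext (Units.ext (congrArg Subtype.val h)))
    · intro z
      by_cases hz : (z : K) = 0
      · exact ⟨none, Subtype.ext hz.symm⟩
      · exact ⟨some ⟨Units.mk0 _ hz, z.2⟩, rfl⟩
  have hdvd : orderOf ζ ∣ Nat.card U := by
    rw [show orderOf ζ = orderOf (⟨ζ, hζU⟩ : U) from (Subgroup.orderOf_mk ζ hζU).symm]
    exact orderOf_dvd_natCard _
  have hd0 : 0 < d := by
    rcases Nat.eq_zero_or_pos d with rfl | h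
    · rw [pow_zero] at hd
      have := Nat.card_pos (α := U)
      omega
    · exact h
  have had : a ∣ d := hmin d hd0 (by rw [← hd, ← hU, Nat.add_sub_cancel, ← hζ]; exact hdvd)
  have htop : (S : Set K) = Set.univ := by
    refine Set.eq_of_subset_of_ncard_le (Set.subset_univ _) ?_ (Set.toFinite _)
    rw [Set.ncard_univ, hK, ← Nat.card_coe_set_eq]
    show p ^ a ≤ Nat.card S
    rw [hd]
    exact Nat.pow_le_pow_right hp.pos (Nat.le_of_dvd hd0 had)
  intro z
  have hz : z ∈ (S : Set K) := htop ▸ Set.mem_univ z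
  exact hz

/-- The model. -/
theorem exists_model (p q : ℕ) [Fact p.Prime] [Fact q.Prime] (hpq : p ≠ q) :
    ∃ (ζ : (GaloisField p (orderOf (p : ZMod q)))ˣ), ζ ^ q = 1 ∧ ζ ≠ 1 ∧
      Function.Surjective (aeval (R := ZMod p) (ζ : GaloisField p (orderOf (p : ZMod q)))) ∧
    ∃ (H : Type) (_ : Group H) (_ : Finite H) (σ : MulAut H) (v : H) (N : Subgroup H),
      Datum q (minpoly (ZMod p) (ζ : GaloisField p (orderOf (p : ZMod q)))) σ v N ∧
      Nat.card H = p ^ (if orderOf (p : ZMod q) % 2 = 1 then orderOf (p : ZMod q)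
        else 3 * orderOf (p : ZMod q) / 2) ∧
      N.index ≤ p ^ orderOf (p : ZMod q) := by
  classical
  have hex := exists_field p q hpq
  set a := orderOf (p : ZMod q) with ha
  obtain ⟨ha0, hqa, hmin, ζ, hζq, hζ1, hsurj⟩ := hex
  refine ⟨ζ, hζq, hζ1, hsurj, ?_⟩
  haveI : Fintype (GaloisField p a) := Fintype.ofFinite _
  have hK : Nat.card (GaloisField p a) = p ^ a := GaloisField.card p a ha0.ne'
  by_cases hodd : a % 2 = 1
  · obtain ⟨v, hv⟩ := vector_model hpq ζ hζq hζ1 hsurj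
    refine ⟨Multiplicative (GaloisField p a), inferInstance, inferInstance, mulAut ζ, v, ⊥, hv, ?_, ?_⟩
    · rw [if_pos hodd, Nat.card_congr Multiplicative.toAdd, hK]
    · rw [Subgroup.index_bot, Nat.card_congr Multiplicative.toAdd, hK]
  · obtain ⟨b, hb⟩ : ∃ b, a = 2 * b := ⟨a / 2, by omega⟩
    have hb0 : 0 < b := by omega
    have hKb : Fintype.card (GaloisField p a) = p ^ b * p ^ b := by
      rw [← Nat.card_eq_fintype_card, hK, ← pow_add]; congr 1; omega
    have hqb : q ∣ p ^ b + 1 := by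
      have h1 : q ∣ (p ^ b + 1) * (p ^ b - 1) := by
        rw [← Nat.sq_sub_sq, one_pow, ← pow_mul, mul_comm b 2, ← hb]; exact hqa
      refine ((Fact.out : q.Prime).dvd_mul.1 h1).resolve_right fun h => ?_
      have := Nat.le_of_dvd hb0 (hmin b hb0 h)
      omega
    obtain ⟨H, hG, hF, σ, v, N, D, hcard⟩ := norm_model hpq hb0 hKb ζ hζq hζ1 hsurj hqb
    refine ⟨H, hG, hF, σ, v, N, D, ?_, ?_⟩
    · rw [if_neg hodd, hcard]; congr 1; omega
    · haveI := hF
      have hn : N.Normal := ⟨fun x hx g => by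
        rw [Subgroup.mem_center_iff.1 (D.central hx) g, mul_inv_cancel_right]; exact hx⟩
      exact index_le (ζ : GaloisField p a) hsurj hK D

section Basic

variable {p q : ℕ} {f : (ZMod p)[X]} {P : Type*} [Group P] {σ : MulAut P} {v : P} {N : Subgroup P}

theorem Datum.normal (D : Datum q f σ v N) : N.Normal := ⟨fun x hx g => by
  rw [Subgroup.mem_center_iff.1 (D.central hx) g, mul_inv_cancel_right]; exact hx⟩

theorem Datum.pow_fix (D : Datum q f σ v N) (i : ℕ) {n : P} (hn : n ∈ N) : (σ ^ i) n = n := by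
  induction i with
  | zero => rfl
  | succ i ih => rw [pow_succ, MulAut.mul_apply, D.fixed n hn, ih]

theorem fixed_modulo [Fact p.Prime] [Fact q.Prime] (hpq : p ≠ q) (σ : MulAut P) (N : Subgroup P)
    (hP : IsPGroup p P) (hfix : ∀ n ∈ N, σ n = n) (hq : σ ^ q = 1) {z : P} (hz : z⁻¹ * σ z ∈ N) :
    σ z = z := by
  obtain ⟨n, hn⟩ : ∃ n, n = z⁻¹ * σ z := ⟨_, rfl⟩
  rw [← hn] at hz
  have hzn : σ z = z * n := by rw [hn, mul_inv_cancel_left]
  have hi : ∀ i : ℕ, (σ ^ i) z = z * n ^ i := by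
    intro i
    induction i with
    | zero => simp
    | succ i ih => rw [pow_succ', MulAut.mul_apply, ih, map_mul, map_pow, hzn, hfix n hz, mul_assoc, ← pow_succ']
  have h1 : n ^ q = 1 := by
    have := hi q
    rw [hq, MulAut.one_apply] at this
    exact left_eq_mul.1 this
  obtain ⟨k, hk⟩ := hP n
  have h3 := pow_gcd_eq_one.2 ⟨h1, hk⟩
  rw [Nat.Coprime.pow_right k ((Nat.coprime_primes (Fact.out : q.Prime) Fact.out).2 (Ne.symm hpq)), pow_one] at h3
  rw [hzn, h3, mul_one]

/-- An invariant subgroup is central or everything. -/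
theorem Datum.dichotomy [Fact p.Prime] [Fact q.Prime] [Finite P] (hpq : p ≠ q) (D : Datum q f σ v N)
    {a : ℕ} (hmin : ∀ d, 0 < d → q ∣ p ^ d - 1 → a ∣ d) (hidx : N.index ≤ p ^ a)
    (R : Subgroup P) (hR : ∀ r ∈ R, σ r ∈ R) : R ≤ N ∨ R = ⊤ := by
  classical
  haveI := D.normal
  by_cases hle : R ≤ N
  · exact Or.inl hle
  right
  let σb : MulAut (P ⧸ N) := QuotientGroup.congr N N σ (by
    ext x
    constructor
    · rintro ⟨y, hy, rfl⟩
      show σ y ∈ N
      rw [D.fixed y hy]; exact hy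
    · intro hx; exact ⟨x, hx, D.fixed x hx⟩)
  have hσb : ∀ x : P, σb (x : P ⧸ N) = ((σ x : P) : P ⧸ N) := fun x => rfl
  let M := R.map (QuotientGroup.mk' N)
  have hM : ∀ m ∈ M, σb m ∈ M := by
    rintro m ⟨r, hr, rfl⟩; exact ⟨σ r, hR r hr, (hσb r).symm⟩
  let π : M → M := fun m => ⟨σb m.1, hM m.1 m.2⟩
  have hπinj : Function.Injective π := fun m m' h => Subtype.ext (σb.injective (congrArg Subtype.val h))
  let e : Equiv.Perm M := Equiv.ofBijective π (Finite.injective_iff_bijective.1 hπinj)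
  have hei : ∀ (i : ℕ) (m : M), ∀ x : P, (m : P ⧸ N) = x → (((e ^ i) m : M) : P ⧸ N) = ((σ ^ i) x : P) := by
    intro i
    induction i with
    | zero => intro m x hx; exact hx
    | succ i ih =>
      intro m x hx
      rw [pow_succ', Equiv.Perm.mul_apply]
      show σb _ = _
      rw [ih m x hx, hσb, pow_succ' σ, MulAut.mul_apply]
  have heq : e ^ q = 1 := Equiv.ext fun m => Subtype.ext (by
    obtain ⟨x, hx⟩ := QuotientGroup.mk_surjective (m : P ⧸ N)
    rw [hei q m x hx.symm, D.ord]; exact hx)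
  haveI := Fintype.ofFinite M
  have hmod := Equiv.Perm.card_compl_support_modEq (p := q) (n := 1) (σ := e) (by rw [pow_one, heq])
  have hsupp : e.supportᶜ = {1} := by
    ext m
    rw [Finset.mem_compl, Equiv.Perm.notMem_support, Finset.mem_singleton]
    constructor
    · intro hm
      obtain ⟨x, hx⟩ := QuotientGroup.mk_surjective (m : P ⧸ N)
      have h1 : σb (m : P ⧸ N) = m := congrArg Subtype.val hm
      rw [← hx, hσb] at h1
      have h2 := fixed_modulo hpq σ N D.pg D.fixed D.ord (z := x) (QuotientGroup.eq.1 h1.symm)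
      -- a fixed element has trivial image
      have h3 : x ∈ N := fixed_mem hpq D h2
      exact Subtype.ext (hx.symm.trans ((QuotientGroup.eq_one_iff x).2 h3))
    · rintro rfl; exact Subtype.ext (map_one σb)
  rw [hsupp, Finset.card_singleton] at hmod
  haveI : Fact (Nat.Prime p) := inferInstance
  obtain ⟨d, hd⟩ := IsPGroup.iff_card.1 ((D.pg.to_quotient N).to_subgroup M)
  rw [← Nat.card_eq_fintype_card, hd] at hmod
  have hq' : q ∣ p ^ d - 1 := (Nat.modEq_iff_dvd' (Nat.one_le_pow _ _ (Fact.out : p.Prime).pos)).1 hmod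
  have hd0 : 0 < d := by
    rcases Nat.eq_zero_or_pos d with rfl | h
    · exfalso; refine hle fun r hr => ?_
      rw [pow_zero, Subgroup.card_eq_one] at hd
      have : (r : P ⧸ N) ∈ M := ⟨r, hr, rfl⟩
      rw [hd, Subgroup.mem_bot] at this
      exact (QuotientGroup.eq_one_iff r).1 this
    · exact h
  have htop : M = ⊤ := Subgroup.eq_top_of_le_card _ (by
    rw [hd, ← Subgroup.index_eq_card]
    exact hidx.trans (Nat.pow_le_pow_right (Fact.out : p.Prime).pos (Nat.le_of_dvd hd0 (hmin d hd0 hq'))))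
  have hdec : ∀ x : P, ∃ r ∈ R, ∃ n ∈ N, x = r * n := by
    intro x
    obtain ⟨r, hr, hrx⟩ : (x : P ⧸ N) ∈ M := htop ▸ Subgroup.mem_top _
    exact ⟨r, hr, r⁻¹ * x, QuotientGroup.eq.1 hrx, by group⟩
  have hcomm : ∀ x y : P, ⁅x, y⁆ ∈ R := by
    intro x y
    obtain ⟨r, hr, n, hn, rfl⟩ := hdec x
    obtain ⟨r', hr', n', hn', rfl⟩ := hdec y
    have e1 : ∀ z : P, ∀ c ∈ N, ⁅z, c⁆ = 1 := fun z c hc =>
      commutatorElement_eq_one_iff_mul_comm.2 (Subgroup.mem_center_iff.1 (D.central hc) z)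
    have e2 : ∀ z : P, ∀ c ∈ N, ⁅c, z⁆ = 1 := fun z c hc => by rw [← commutatorElement_inv, e1 z c hc, inv_one]
    rw [comm_mul_left N D.central D.comm, e2 _ n hn, mul_one, comm_mul_right N D.central D.comm,
      e1 r n' hn', mul_one, commutatorElement_def]
    exact R.mul_mem (R.mul_mem (R.mul_mem hr hr') (R.inv_mem hr)) (R.inv_mem hr')
  have hnR : ∀ x ∈ R, ∀ g, g * x * g⁻¹ ∈ R := fun x hx g => by
    have := R.mul_mem (hcomm g x) hx
    rwa [commutatorElement_def, inv_mul_cancel_right] at this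
  haveI : R.Normal := ⟨hnR⟩
  have hσR : ∀ x : P, x⁻¹ * σ x ∈ R := by
    intro x
    obtain ⟨r, hr, n, hn, rfl⟩ := hdec x
    rw [map_mul, D.fixed n hn, mul_inv_rev]
    have := hnR _ (R.mul_mem (R.inv_mem hr) (hR r hr)) n⁻¹
    rw [inv_inv] at this
    simpa [mul_assoc] using this
  have horb : ∀ (i : ℕ) (x : P), ((σ ^ i) x : P ⧸ R) = (x : P ⧸ R) := by
    intro i
    induction i with
    | zero => intro x; rfl
    | succ i ih =>
      intro x
      rw [pow_succ', MulAut.mul_apply, ← ih x]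
      exact (QuotientGroup.eq.2 (hσR _)).symm
  have hvR : v ∈ R := by
    have h1 : ∀ n, ((orbitProd σ n v : P) : P ⧸ R) = (v : P ⧸ R) ^ n := by
      intro n
      induction n with
      | zero => simp [orbitProd]
      | succ n ih =>
        rw [orbitProd, List.range_succ, List.map_append, List.prod_append, QuotientGroup.mk_mul,
          List.map_singleton, List.prod_singleton, horb, pow_succ, ← ih]
        rfl
    have h2 := h1 q
    rw [D.tele, QuotientGroup.mk_one] at h2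
    obtain ⟨k, hk⟩ := (D.pg.to_quotient R) (v : P ⧸ R)
    have h3 := pow_gcd_eq_one.2 ⟨h2.symm, hk⟩
    rw [Nat.Coprime.pow_right k ((Nat.coprime_primes (Fact.out : q.Prime) Fact.out).2 (Ne.symm hpq)), pow_one] at h3
    exact (QuotientGroup.eq_one_iff v).1 h3
  rw [eq_top_iff, ← D.gen, Subgroup.closure_le]
  rintro x ⟨i, rfl⟩
  have := horb i v
  rw [(QuotientGroup.eq_one_iff v).2 hvR] at this
  exact (QuotientGroup.eq_one_iff _).1 this

end Basic

end Cfsg.Agent.MaxSchmidt
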