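import Cfsg.Agent.Lib.MaxSchmidt.Bound

/-!
# The largest normal Sylow subgroup: vector groups and trace-norm groups
-/

set_option autoImplicit false

namespace Cfsg.Agent.MaxSchmidt

open Polynomial
open scoped commutatorElement

universe w

theorem map_word {p : ℕ} {P R : Type*} [Group P] [Group R] (φ : P →* R) (σ : MulAut P) (τ : MulAut R)
    (h : ∀ x, φ (σ x) = τ (φ x)) (f : (ZMod p)[X]) (x : P) : φ (word f σ x) = word f τ (φ x) := by
  have hp : ∀ (i : ℕ) x, φ ((σ ^ i) x) = (τ ^ i) (φ x) := by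
    intro i
    induction i with
    | zero => intro x; rfl
    | succ i ih => intro x; rw [pow_succ, MulAut.mul_apply, ih, h, pow_succ, MulAut.mul_apply]
  rw [word, word, map_list_prod, List.map_map]
  congr 1
  refine List.map_congr_left fun i _ => ?_
  show φ (_ ^ _) = _
  rw [map_pow, hp]

/-- Multiplication by a unit on the additive group of a field. -/
def mulAut {K : Type*} [Field K] (u : Kˣ) : MulAut (Multiplicative K) where
  toFun x := Multiplicative.ofAdd ((u : K) * x.toAdd)
  invFun x := Multiplicative.ofAdd ((↑u⁻¹ : K) * x.toAdd)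
  left_inv x := by simp [← mul_assoc]
  right_inv x := by simp [← mul_assoc]
  map_mul' x y := by simp [mul_add]

theorem mulAut_pow {K : Type*} [Field K] (u : Kˣ) (i : ℕ) (x : Multiplicative K) :
    ((mulAut u) ^ i) x = Multiplicative.ofAdd ((u : K) ^ i * x.toAdd) := by
  induction i with
  | zero => simp
  | succ i ih =>
    rw [pow_succ', MulAut.mul_apply, ih, pow_succ', mul_assoc]
    rfl

theorem word_mulAut {p : ℕ} [Fact p.Prime] {K : Type*} [Field K] [Algebra (ZMod p) K] (u : Kˣ)
    (f : (ZMod p)[X]) (x : Multiplicative K) :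
    word f (mulAut u) x = Multiplicative.ofAdd (aeval (u : K) f * x.toAdd) := by
  rw [word, aeval_eq_sum_range, Finset.sum_mul]
  generalize f.natDegree + 1 = n
  induction n with
  | zero => simp
  | succ n ih =>
    rw [List.range_succ, List.map_append, List.prod_append, ih, Finset.sum_range_succ, ofAdd_add,
      List.map_singleton, List.prod_singleton, mulAut_pow, smul_mul_assoc]
    congr 1
    rw [← ofAdd_nsmul, ← Nat.cast_smul_eq_nsmul (ZMod p), ZMod.natCast_zmod_val]

variable {p q : ℕ} [Fact p.Prime] [Fact q.Prime]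

/-- The vector model. -/
theorem vector_model (hpq : p ≠ q) {K : Type*} [Field K] [Finite K] [Algebra (ZMod p) K] (ζ : Kˣ)
    (hζq : ζ ^ q = 1) (hζ1 : ζ ≠ 1) (hsurj : Function.Surjective (aeval (R := ZMod p) (ζ : K))) :
    ∃ v : Multiplicative K, Datum q (minpoly (ZMod p) (ζ : K)) (mulAut ζ) v ⊥ := by
  haveI : CharP K p := charP_of_injective_algebraMap (algebraMap (ZMod p) K).injective p
  have hpK : ∀ x : K, p • x = 0 := fun x => by rw [nsmul_eq_mul, CharP.cast_eq_zero, zero_mul]
  have hne : (ζ : K) - 1 ≠ 0 := sub_ne_zero.2 fun h => hζ1 (Units.ext h)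
  refine ⟨Multiplicative.ofAdd ((ζ : K) - 1), ?_, bot_le, ?_, ?_, ?_, ?_, ?_, ?_, ?_⟩
  · intro x
    exact ⟨1, Multiplicative.toAdd.injective (by rw [toAdd_pow, pow_one, hpK, toAdd_one])⟩
  · intro n hn; rw [Subgroup.mem_bot.1 hn, map_one]
  · intro a b; rw [Subgroup.mem_bot, commutatorElement_eq_one_iff_mul_comm, mul_comm]
  · intro a
    exact Subgroup.mem_bot.2 (Multiplicative.toAdd.injective (by rw [toAdd_pow, hpK, toAdd_one]))
  · refine MulEquiv.ext fun x => ?_
    rw [mulAut_pow, ← Units.val_pow_eq_pow_val, hζq, Units.val_one, one_mul]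
    rfl
  · have h : (Multiplicative.ofAdd (1 : K))⁻¹ * mulAut ζ (Multiplicative.ofAdd 1) =
        Multiplicative.ofAdd ((ζ : K) - 1) := by
      apply Multiplicative.toAdd.injective
      show -1 + (ζ : K) * 1 = _
      rw [mul_one, neg_add_eq_sub]
      rfl
    rw [← h, orbitProd_twist]
    have : (mulAut ζ) ^ q = 1 := MulEquiv.ext fun x => by
      rw [mulAut_pow, ← Units.val_pow_eq_pow_val, hζq, Units.val_one, one_mul]; rfl
    rw [this]; simp
  · rw [eq_top_iff]
    intro x _
    obtain ⟨g, hg⟩ := hsurj (x.toAdd / ((ζ : K) - 1))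
    have hx : x = word g (mulAut ζ) (Multiplicative.ofAdd ((ζ : K) - 1)) := by
      rw [word_mulAut, hg, toAdd_ofAdd, div_mul_cancel₀ _ hne, ofAdd_toAdd]
    rw [hx]
    refine Subgroup.list_prod_mem _ fun y hy => ?_
    obtain ⟨i, -, rfl⟩ := List.mem_map.1 hy
    exact Subgroup.pow_mem _ (Subgroup.subset_closure (Set.mem_range_self i)) _
  · intro x
    rw [Subgroup.mem_bot, word_mulAut, minpoly.aeval, zero_mul, ofAdd_zero]

/-- Trace-norm pairs. -/
@[ext]
structure TN (K : Type*) [Field K] (β : K →+* K) : Type _ where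
  fst : K
  snd : K
  cond : snd + β snd = fst * β fst

namespace TN

variable {K : Type*} [Field K] {β : K →+* K} [hβ : Fact (∀ z, β (β z) = z)]

instance : Mul (TN K β) := ⟨fun (a b : TN K β) => TN.mk (a.fst + b.fst) (a.snd + b.snd + β a.fst * b.fst) (by
  rw [map_add, map_add, map_add, map_mul, hβ.out]
  linear_combination a.cond + b.cond)⟩

instance : One (TN K β) := ⟨⟨0, 0, by simp⟩⟩

instance : Inv (TN K β) := ⟨fun (a : TN K β) => TN.mk (-a.fst) (-a.snd + β a.fst * a.fst) (by
  rw [map_neg, map_add, map_neg, map_mul, hβ.out]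
  linear_combination -a.cond)⟩

theorem mul_fst (a b : TN K β) : (a * b).fst = a.fst + b.fst := rfl
theorem mul_snd (a b : TN K β) : (a * b).snd = a.snd + b.snd + β a.fst * b.fst := rfl
theorem one_fst : (1 : TN K β).fst = 0 := rfl
theorem one_snd : (1 : TN K β).snd = 0 := rfl
theorem inv_fst (a : TN K β) : (a⁻¹).fst = -a.fst := rfl
theorem inv_snd (a : TN K β) : (a⁻¹).snd = -a.snd + β a.fst * a.fst := rfl

instance : Group (TN K β) :=
  Group.ofLeftAxioms
    (fun a b c => by
      refine TN.ext ?_ ?_ <;> simp only [mul_fst, mul_snd, map_add] <;> ring)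
    (fun a => by
      refine TN.ext ?_ ?_ <;> simp only [mul_fst, mul_snd, one_fst, one_snd, map_zero] <;> ring)
    (fun a => by
      refine TN.ext ?_ ?_ <;> simp only [mul_fst, mul_snd, one_fst, one_snd, inv_fst, inv_snd, map_neg] <;> ring)

instance [Finite K] : Finite (TN K β) :=
  Finite.of_injective (fun a => (a.fst, a.snd)) fun a b h =>
    TN.ext (congrArg Prod.fst h) (congrArg Prod.snd h)

/-- The projection. -/
def proj : TN K β →* Multiplicative K where
  toFun a := Multiplicative.ofAdd a.fst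
  map_one' := rfl
  map_mul' _ _ := rfl

/-- Multiplication by an element of norm one. -/
def aut (u : Kˣ) (hu : β (u : K) * u = 1) : MulAut (TN K β) where
  toFun a := ⟨(u : K) * a.fst, a.snd, by
    rw [map_mul]; linear_combination a.cond - (a.fst * β a.fst) * hu⟩
  invFun a := ⟨(↑u⁻¹ : K) * a.fst, a.snd, by
    have h : β (↑u⁻¹ : K) * (↑u⁻¹ : K) = 1 := by
      rw [Units.val_inv_eq_inv_val, map_inv₀, ← mul_inv, hu, inv_one]
    rw [map_mul]; linear_combination a.cond - (a.fst * β a.fst) * h⟩
  left_inv a := TN.ext (by simp [← mul_assoc]) rfl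
  right_inv a := TN.ext (by simp [← mul_assoc]) rfl
  map_mul' a b := by
    refine TN.ext ?_ ?_
    · show (u : K) * (a.fst + b.fst) = (u : K) * a.fst + (u : K) * b.fst
      ring
    · show a.snd + b.snd + β a.fst * b.fst = a.snd + b.snd + β ((u : K) * a.fst) * ((u : K) * b.fst)
      rw [map_mul]
      linear_combination -(β a.fst * b.fst) * hu

end TN

/-- The trace-norm model. -/
theorem norm_model (hpq : p ≠ q) {K : Type w} [Field K] [Fintype K] [Algebra (ZMod p) K] {b : ℕ}
    (hb : 0 < b) (hK : Fintype.card K = p ^ b * p ^ b) (ζ : Kˣ)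
    (hζq : ζ ^ q = 1) (hζ1 : ζ ≠ 1) (hsurj : Function.Surjective (aeval (R := ZMod p) (ζ : K)))
    (hqb : q ∣ p ^ b + 1) :
    ∃ (H : Type w) (_ : Group H) (_ : Finite H) (σ : MulAut H) (v : H) (N : Subgroup H),
      Datum q (minpoly (ZMod p) (ζ : K)) σ v N ∧ Nat.card H = p ^ (3 * b) := by
  classical
  haveI : CharP K p := charP_of_injective_algebraMap (algebraMap (ZMod p) K).injective p
  haveI : ExpChar K p := ExpChar.prime Fact.out
  obtain ⟨m, hm⟩ : ∃ m, m = p ^ b := ⟨_, rfl⟩
  let β : K →+* K := iterateFrobenius K p b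
  have hβ : ∀ z, β z = z ^ m := fun z => by rw [hm]; exact iterateFrobenius_def p b z
  haveI : Fact (∀ z, β (β z) = z) := ⟨fun z => by
    rw [hβ, hβ, ← pow_mul, hm, ← hK, FiniteField.pow_card]⟩
  have hββ : ∀ z, β (β z) = z := Fact.out
  have hm2 : 2 ≤ m := hm ▸ le_trans (Fact.out : p.Prime).two_le (Nat.le_self_pow hb.ne' p)
  have hu : β (ζ : K) * ζ = 1 := by
    obtain ⟨j, hj⟩ := hqb
    rw [hβ, ← pow_succ, hm, hj, pow_mul, ← Units.val_pow_eq_pow_val, hζq, Units.val_one, one_pow]
  -- counting roots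
  have hroots : ∀ c : K, Nat.card {z : K // z ^ m + c * z = 0} ≤ m := by
    intro c
    have hne : (X ^ m + C c * X : K[X]) ≠ 0 := fun h => by
      have := congrArg (fun g => coeff g m) h
      simp [coeff_X, show (1 : ℕ) ≠ m by omega] at this
    have hdeg : (X ^ m + C c * X : K[X]).natDegree ≤ m := by
      refine natDegree_add_le_of_degree_le (natDegree_X_pow_le _) ?_
      exact (natDegree_C_mul_le _ _).trans (natDegree_X_le.trans (by omega))
    calc Nat.card {z : K // z ^ m + c * z = 0}
        ≤ Nat.card {z : K // z ∈ (X ^ m + C c * X : K[X]).roots.toFinset} :=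
          Nat.card_le_card_of_injective (fun z => ⟨z.1, by
            rw [Multiset.mem_toFinset, mem_roots hne]; simp [z.2]⟩)
            fun z w h => Subtype.ext (congrArg (fun t => t.1) h)
      _ = (X ^ m + C c * X : K[X]).roots.toFinset.card := Nat.card_eq_finsetCard _
      _ ≤ m := ((Multiset.toFinset_card_le _).trans (card_roots' _)).trans hdeg
  let Tp : K →+ K := AddMonoidHom.mk' (fun z => z + β z) fun x y => by simp only [map_add]; abel
  let Tm : K →+ K := AddMonoidHom.mk' (fun z => z - β z) fun x y => by simp only [map_add]; abel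
  have hkerp : Nat.card Tp.ker ≤ m := le_trans (Nat.card_le_card_of_injective
    (fun z : Tp.ker => (⟨z.1, by
      have h : z.1 + β z.1 = 0 := z.2
      rw [hβ] at h; rw [one_mul, add_comm]; exact h⟩ : {z : K // z ^ m + 1 * z = 0}))
    fun z w h => Subtype.ext (congrArg (fun t => t.1) h)) (hroots 1)
  have hkerm : Nat.card Tm.ker ≤ m := le_trans (Nat.card_le_card_of_injective
    (fun z : Tm.ker => (⟨z.1, by
      have h : z.1 - β z.1 = 0 := z.2
      rw [hβ] at h; linear_combination -h⟩ : {z : K // z ^ m + (-1) * z = 0}))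
    fun z w h => Subtype.ext (congrArg (fun t => t.1) h)) (hroots (-1))
  have hrp : Tp.range ≤ Tm.ker := by
    rintro y ⟨z, rfl⟩
    show (z + β z) - β (z + β z) = 0
    rw [map_add, hββ]; ring
  have hrm : Tm.range ≤ Tp.ker := by
    rintro y ⟨z, rfl⟩
    show (z - β z) + β (z - β z) = 0
    rw [map_sub, hββ]; ring
  have hbig : ∀ T : K →+ K, Nat.card T.ker ≤ m → m ≤ Nat.card T.range := fun T hT => by
    have h1 := AddSubgroup.card_mul_index T.ker
    rw [AddSubgroup.index_ker, Nat.card_eq_fintype_card (α := K), hK, ← hm] at h1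
    have h2 : m * m ≤ m * Nat.card T.range := h1 ▸ Nat.mul_le_mul_right _ hT
    exact Nat.le_of_mul_le_mul_left h2 (by omega)
  have htrace : Tp.range = Tm.ker :=
    AddSubgroup.eq_of_le_of_card_ge hrp (hkerm.trans (hbig Tp hkerp))
  have hanti : Tm.range = Tp.ker :=
    AddSubgroup.eq_of_le_of_card_ge hrm (hkerp.trans (hbig Tm hkerm))
  have hkcard : Nat.card Tp.ker = m :=
    le_antisymm hkerp ((hbig Tm hkerm).trans (AddSubgroup.card_le_of_le hrm))
  have hnorm : ∀ x : K, ∃ t, t + β t = x * β x := by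
    intro x
    have : x * β x ∈ Tm.ker := by
      show x * β x - β (x * β x) = 0
      rw [map_mul, hββ]; ring
    rw [← htrace] at this
    exact this
  let σ : MulAut (TN K β) := TN.aut ζ hu
  have hproj : ∀ a : (TN K β), TN.proj (σ a) = mulAut ζ (TN.proj a) := fun a => rfl
  let N : Subgroup (TN K β) := (TN.proj : (TN K β) →* Multiplicative K).ker
  have hNmem : ∀ a : (TN K β), a ∈ N ↔ a.fst = 0 := fun a =>
    ⟨fun h => Multiplicative.ofAdd.injective (MonoidHom.mem_ker.1 h), fun h => MonoidHom.mem_ker.2 (by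
      show Multiplicative.ofAdd a.fst = 1; rw [h]; rfl)⟩
  have hσpow : ∀ (i : ℕ) (a : (TN K β)), ((σ ^ i) a).fst = (ζ : K) ^ i * a.fst ∧ ((σ ^ i) a).snd = a.snd := by
    intro i
    induction i with
    | zero => intro a; simp
    | succ i ih =>
      intro a
      rw [pow_succ', MulAut.mul_apply]
      refine ⟨?_, (ih a).2⟩
      show (ζ : K) * ((σ ^ i) a).fst = _
      rw [(ih a).1, pow_succ']; ring
  have hσq : σ ^ q = 1 := MulEquiv.ext fun a => TN.ext
    (by rw [(hσpow q a).1, ← Units.val_pow_eq_pow_val, hζq, Units.val_one, one_mul]; rfl) (hσpow q a).2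
  have hne : (ζ : K) - 1 ≠ 0 := sub_ne_zero.2 fun h => hζ1 (Units.ext h)
  obtain ⟨t₀, ht₀⟩ := hnorm 1
  let w : (TN K β) := ⟨1, t₀, ht₀⟩
  let v : (TN K β) := w⁻¹ * σ w
  have hvfst : v.fst = (ζ : K) - 1 := by
    show -1 + (ζ : K) * 1 = _
    ring
  have hgen : Subgroup.closure (Set.range fun i : ℕ => (σ ^ i) v) = ⊤ := by
    set L := Subgroup.closure (Set.range fun i : ℕ => (σ ^ i) v) with hL
    have honto : ∀ x : K, ∃ a ∈ L, a.fst = x := by
      intro x
      obtain ⟨g, hg⟩ := hsurj (x / ((ζ : K) - 1))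
      refine ⟨word g σ v, Subgroup.list_prod_mem _ fun y hy => ?_, ?_⟩
      · obtain ⟨i, -, rfl⟩ := List.mem_map.1 hy
        exact Subgroup.pow_mem _ (Subgroup.subset_closure (Set.mem_range_self i)) _
      · have h1 := map_word TN.proj σ (mulAut ζ) hproj g v
        rw [word_mulAut, hg] at h1
        have h2 := congrArg Multiplicative.toAdd h1
        rw [toAdd_ofAdd] at h2
        show Multiplicative.toAdd (TN.proj (word g σ v)) = x
        rw [h2]
        show x / ((ζ : K) - 1) * v.fst = x
        rw [hvfst, div_mul_cancel₀ _ hne]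
    rw [eq_top_iff]
    intro a _
    obtain ⟨l, hl, hla⟩ := honto a.fst
    have hd : (l⁻¹ * a).fst = 0 := by rw [TN.mul_fst, TN.inv_fst, hla, neg_add_cancel]
    have hd2 : (l⁻¹ * a).snd ∈ Tp.ker := by
      have := (l⁻¹ * a).cond
      rw [hd, map_zero, mul_zero] at this
      exact this
    rw [← hanti] at hd2
    obtain ⟨z, hz⟩ := hd2
    obtain ⟨c, hc, hc1⟩ := honto 1
    obtain ⟨e, he, he1⟩ := honto z
    have hcomm : l⁻¹ * a = ⁅c, e⁆ := by
      refine TN.ext ?_ ?_
      · rw [hd]; simp [commutatorElement_def, TN.mul_fst, TN.inv_fst]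
      · rw [← hz]
        simp only [commutatorElement_def, TN.mul_fst, TN.inv_fst, TN.mul_snd, TN.inv_snd, map_add, map_neg,
          hc1, he1, map_one]
        show z - β z = _
        ring
    have : a = l * ⁅c, e⁆ := by rw [← hcomm, mul_inv_cancel_left]
    rw [this, commutatorElement_def]
    exact L.mul_mem hl (L.mul_mem (L.mul_mem (L.mul_mem hc he) (L.inv_mem hc)) (L.inv_mem he))
  refine ⟨(TN K β), inferInstance, inferInstance, σ, v, N, ⟨?_, ?_, ?_, ?_, ?_, hσq, ?_, hgen, ?_⟩, ?_⟩
  · -- a `p`-group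
    intro a
    refine ⟨2, ?_⟩
    have hk : ∀ (k : ℕ) (c : (TN K β)), (c ^ k).fst = k • c.fst := by
      intro k c
      induction k with
      | zero => simp [TN.one_fst]
      | succ k ih => rw [pow_succ, TN.mul_fst, ih, succ_nsmul]
    have hk0 : ∀ (k : ℕ) (c : (TN K β)), c.fst = 0 → (c ^ k).snd = k • c.snd := by
      intro k c hc
      induction k with
      | zero => simp [TN.one_snd]
      | succ k ih => rw [pow_succ, TN.mul_snd, ih, hc, mul_zero, add_zero, succ_nsmul]
    have h0 : (a ^ p).fst = 0 := by rw [hk, nsmul_eq_mul, CharP.cast_eq_zero, zero_mul]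
    rw [pow_two, pow_mul]
    refine TN.ext ?_ ?_
    · rw [hk, h0, nsmul_zero, TN.one_fst]
    · rw [hk0 _ _ h0, nsmul_eq_mul, CharP.cast_eq_zero, zero_mul, TN.one_snd]
  · intro n hn
    rw [Subgroup.mem_center_iff]
    intro g
    refine TN.ext ?_ ?_
    · rw [TN.mul_fst, TN.mul_fst, (hNmem n).1 hn, add_zero, zero_add]
    · rw [TN.mul_snd, TN.mul_snd, (hNmem n).1 hn, map_zero, mul_zero, zero_mul]; ring
  · intro n hn
    refine TN.ext ?_ rfl
    show (ζ : K) * n.fst = n.fst
    rw [(hNmem n).1 hn, mul_zero]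
  · intro a c
    rw [MonoidHom.mem_ker, map_commutatorElement, commutatorElement_eq_one_iff_mul_comm, mul_comm]
  · intro a
    rw [MonoidHom.mem_ker, map_pow]
    refine Multiplicative.toAdd.injective ?_
    rw [toAdd_pow, nsmul_eq_mul, CharP.cast_eq_zero, zero_mul, toAdd_one]
  · show orbitProd σ q (w⁻¹ * σ w) = 1
    rw [orbitProd_twist, hσq]; simp
  · intro a
    rw [MonoidHom.mem_ker, map_word TN.proj σ (mulAut ζ) hproj, word_mulAut, minpoly.aeval, zero_mul, ofAdd_zero]
  · have e : (TN K β) ≃ K × Tp.ker :=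
      { toFun := fun a => (a.fst, ⟨a.snd - (hnorm a.fst).choose, by
          show (a.snd - _) + β (a.snd - _) = 0
          rw [map_sub]; linear_combination a.cond - (hnorm a.fst).choose_spec⟩)
        invFun := fun c => ⟨c.1, c.2.1 + (hnorm c.1).choose, by
          have h : c.2.1 + β c.2.1 = 0 := c.2.2
          rw [map_add]; linear_combination h + (hnorm c.1).choose_spec⟩
        left_inv := fun a => TN.ext rfl (sub_add_cancel _ _)
        right_inv := fun c => Prod.ext rfl (Subtype.ext (add_sub_cancel_right _ _)) }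
    rw [Nat.card_congr e, Nat.card_prod, hkcard, Nat.card_eq_fintype_card, hK, hm, ← pow_add, ← pow_add]
    congr 1; ring

end Cfsg.Agent.MaxSchmidt
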