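import Cfsg.Agent.Lib.MaxSchmidt.Group
import Cfsg.Agent.Lib.MaxSchmidt.Extract

/-!
# The universal property of the maximal Schmidt group
-/

set_option autoImplicit false

namespace Cfsg.Agent.MaxSchmidt

open Subgroup Polynomial
open scoped commutatorElement Pointwise

universe w1 w2

theorem map_orbitProd {P R : Type*} [Group P] [Group R] (φ : P →* R) (σ : MulAut P) (τ : MulAut R)
    (h : ∀ x, φ (σ x) = τ (φ x)) (n : ℕ) (x : P) : φ (orbitProd σ n x) = orbitProd τ n (φ x) := by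
  have hp : ∀ (i : ℕ) x, φ ((σ ^ i) x) = (τ ^ i) (φ x) := by
    intro i
    induction i with
    | zero => intro x; rfl
    | succ i ih => intro x; rw [pow_succ, MulAut.mul_apply, ih, h, pow_succ, MulAut.mul_apply]
  rw [orbitProd, orbitProd, map_list_prod, List.map_map]
  congr 1
  exact List.map_congr_left fun i _ => hp i x

/-- The model maps equivariantly onto every group with a datum of the same kind. -/
theorem exists_hom {p q a : ℕ} [Fact p.Prime] [Fact q.Prime] (hpq : p ≠ q) {K : Type*} [Field K]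
    [Algebra (ZMod p) K] [Finite K] (ζ : K) (hζq : ζ ^ q = 1) (hζ1 : ζ ≠ 1)
    (hsurj : Function.Surjective (aeval (R := ZMod p) ζ)) (hK : Nat.card K = p ^ a)
    (hmin : ∀ d, 0 < d → q ∣ p ^ d - 1 → a ∣ d) (hqa : q ∣ p ^ a - 1)
    {H : Type w1} [Group H] [Finite H] {σ : MulAut H} {v : H} {N : Subgroup H}
    (D : Datum q (minpoly (ZMod p) ζ) σ v N)
    (hcard : Nat.card H = p ^ (if a % 2 = 1 then a else 3 * a / 2))
    {P : Type w2} [Group P] [Finite P] {τ : MulAut P} {w : P} {M : Subgroup P}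
    (E : Datum q (minpoly (ZMod p) ζ) τ w M) :
    ∃ φ : H →* P, Function.Surjective φ ∧ ∀ h, φ (σ h) = τ (φ h) := by
  classical
  let S : Set (H × P) := Set.range fun i : ℕ => ((σ ^ i) v, (τ ^ i) w)
  obtain ⟨Y, hY⟩ : ∃ Y, Y = closure S := ⟨_, rfl⟩
  have hmem : ∀ y ∈ Y, ((σ y.1, τ y.2) : H × P) ∈ Y := by
    intro y hy
    have : Y ≤ Y.comap (σ.toMonoidHom.prodMap τ.toMonoidHom) := by
      rw [hY, closure_le]
      rintro z ⟨i, rfl⟩
      refine subset_closure ⟨i + 1, ?_⟩
      show ((σ ^ (i + 1)) v, (τ ^ (i + 1)) w) = (σ ((σ ^ i) v), τ ((τ ^ i) w))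
      rw [pow_succ', pow_succ', MulAut.mul_apply, MulAut.mul_apply]
    exact this hy
  let ρ : Y →* Y :=
    { toFun := fun y => ⟨(σ y.1.1, τ y.1.2), hmem _ y.2⟩
      map_one' := by ext <;> simp
      map_mul' := fun y z => by ext <;> simp }
  have hρ : Function.Bijective ρ := by
    refine Finite.injective_iff_bijective.1 fun y z h => ?_
    have h1 := congrArg (fun u : Y => u.1.1) h
    have h2 := congrArg (fun u : Y => u.1.2) h
    exact Subtype.ext (Prod.ext (σ.injective h1) (τ.injective h2))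
  let σY : MulAut Y := MulEquiv.ofBijective ρ hρ
  let f1 : Y →* H := (MonoidHom.fst H P).comp Y.subtype
  let f2 : Y →* P := (MonoidHom.snd H P).comp Y.subtype
  have hf1 : ∀ y, f1 (σY y) = σ (f1 y) := fun y => rfl
  have hf2 : ∀ y, f2 (σY y) = τ (f2 y) := fun y => rfl
  have hf1i : ∀ (i : ℕ) y, f1 ((σY ^ i) y) = (σ ^ i) (f1 y) := by
    intro i
    induction i with
    | zero => intro y; rfl
    | succ i ih => intro y; rw [pow_succ, MulAut.mul_apply, ih, hf1, pow_succ, MulAut.mul_apply]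
  have hf2i : ∀ (i : ℕ) y, f2 ((σY ^ i) y) = (τ ^ i) (f2 y) := by
    intro i
    induction i with
    | zero => intro y; rfl
    | succ i ih => intro y; rw [pow_succ, MulAut.mul_apply, ih, hf2, pow_succ, MulAut.mul_apply]
  have hext : ∀ y z : Y, f1 y = f1 z → f2 y = f2 z → y = z := fun y z h1 h2 => Subtype.ext (Prod.ext h1 h2)
  obtain ⟨vY, hv1, hv2⟩ : ∃ y : Y, f1 y = v ∧ f2 y = w :=
    ⟨⟨(v, w), hY ▸ subset_closure ⟨0, rfl⟩⟩, rfl, rfl⟩
  have hgen : closure (Set.range fun i : ℕ => (σY ^ i) vY) = ⊤ := by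
    apply Subgroup.map_injective Y.subtype_injective
    rw [MonoidHom.map_closure, ← MonoidHom.range_eq_map, Subgroup.range_subtype]
    conv_rhs => rw [hY]
    congr 1
    rw [← Set.range_comp]
    refine congrArg Set.range (funext fun i => ?_)
    show (Y.subtype ((σY ^ i) vY)) = ((σ ^ i) v, (τ ^ i) w)
    rw [← hv1, ← hv2, ← hf1i, ← hf2i]
    rfl
  have DY : Datum q (minpoly (ZMod p) ζ) σY vY (N.comap f1 ⊓ M.comap f2) := by
    refine ⟨fun y => ?_, ?_, ?_, ?_, ?_, ?_, ?_, hgen, ?_⟩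
    · obtain ⟨k, hk⟩ := D.pg (f1 y)
      obtain ⟨l, hl⟩ := E.pg (f2 y)
      refine ⟨k + l, hext _ _ ?_ ?_⟩
      · rw [map_pow, map_one, pow_add, pow_mul, hk, one_pow]
      · rw [map_pow, map_one, add_comm, pow_add, pow_mul, hl, one_pow]
    · rintro y ⟨hy1, hy2⟩
      refine mem_center_iff.2 fun z => hext _ _ ?_ ?_
      · rw [map_mul, map_mul]; exact mem_center_iff.1 (D.central hy1) _
      · rw [map_mul, map_mul]; exact mem_center_iff.1 (E.central hy2) _
    · rintro y ⟨hy1, hy2⟩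
      exact hext _ _ ((hf1 y).trans (D.fixed _ hy1)) ((hf2 y).trans (E.fixed _ hy2))
    · intro y z
      exact ⟨show f1 ⁅y, z⁆ ∈ N by rw [map_commutatorElement]; exact D.comm _ _,
        show f2 ⁅y, z⁆ ∈ M by rw [map_commutatorElement]; exact E.comm _ _⟩
    · intro y
      exact ⟨show f1 (y ^ p) ∈ N by rw [map_pow]; exact D.pow _,
        show f2 (y ^ p) ∈ M by rw [map_pow]; exact E.pow _⟩
    · refine MulEquiv.ext fun y => hext _ _ ?_ ?_
      · rw [hf1i, D.ord]; rfl
      · rw [hf2i, E.ord]; rfl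
    · refine hext _ _ ?_ ?_
      · rw [map_orbitProd f1 σY σ hf1, hv1, D.tele, map_one]
      · rw [map_orbitProd f2 σY τ hf2, hv2, E.tele, map_one]
    · intro y
      exact ⟨show f1 _ ∈ N by rw [map_word f1 σY σ hf1]; exact D.ann _,
        show f2 _ ∈ M by rw [map_word f2 σY τ hf2]; exact E.ann _⟩
  have hle := card_le hpq ζ hζq hζ1 hsurj hK hmin hqa DY
  rw [← hcard] at hle
  have hs1 : Function.Surjective f1 := by
    rw [← MonoidHom.range_eq_top, eq_top_iff, ← D.gen, closure_le]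
    rintro x ⟨i, rfl⟩
    exact ⟨(σY ^ i) vY, by rw [hf1i, hv1]⟩
  have hs2 : Function.Surjective f2 := by
    rw [← MonoidHom.range_eq_top, eq_top_iff, ← E.gen, closure_le]
    rintro x ⟨i, rfl⟩
    exact ⟨(σY ^ i) vY, by rw [hf2i, hv2]⟩
  have hb1 : Function.Bijective f1 := by
    refine (Nat.bijective_iff_surjective_and_card _).2 ⟨hs1, ?_⟩
    exact le_antisymm hle (Nat.card_le_card_of_surjective f1 hs1)
  let e : Y ≃* H := MulEquiv.ofBijective f1 hb1
  refine ⟨f2.comp e.symm.toMonoidHom, hs2.comp e.symm.surjective, fun h => ?_⟩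
  show f2 (e.symm (σ h)) = τ (f2 (e.symm h))
  rw [← hf2]
  congr 1
  apply e.injective
  rw [e.apply_symm_apply]
  show σ h = f1 (σY (e.symm h))
  rw [hf1]
  exact congrArg σ (e.apply_symm_apply h).symm

/-- The data of a finite group all of whose proper subgroups, but not itself, have a normal complement. -/
theorem exists_structure {p q r t : ℕ} [Fact p.Prime] [Fact q.Prime] (hpq : p ≠ q) {X : Type*} [Group X] [Finite X]
    (hX : ¬ Cfsg.HasNormalPComplement p X)
    (hsub : ∀ K : Subgroup X, K ≠ ⊤ → Cfsg.HasNormalPComplement p ↥K)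
    (hcard : Nat.card X = p ^ t * q ^ r) :
    ∃ (P : Subgroup X) (hn : P.Normal) (y : X), IsPGroup p P ∧ y ^ (q ^ r) = 1 ∧ P ⊔ zpowers y = ⊤ ∧
      (haveI := hn; (MulAut.conjNormal y : MulAut P) ^ q = 1 ∧ (MulAut.conjNormal y : MulAut P) ≠ 1 ∧
        ∀ R : Subgroup P, (∀ x ∈ R, (MulAut.conjNormal y : MulAut P) x ∈ R) → R ≠ ⊤ →
          ∀ x ∈ R, (MulAut.conjNormal y : MulAut P) x = x) := by
  classical
  have hq : q.Prime := Fact.out
  have hp : p.Prime := Fact.out
  have hcop : q.Coprime p := (Nat.coprime_primes hq hp).2 (Ne.symm hpq)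
  obtain ⟨hnil, -, hnorm⟩ := Cfsg.Agent.S0132.result hX hsub
  let P : Sylow p X := default
  haveI hn : (P : Subgroup X).Normal := hnorm P
  have hcases : ∃ D : Subgroup X, IsPGroup p D ∧ ∃ g ∈ normalizer (D : Set X), (orderOf g).Coprime p ∧
      g ∉ centralizer (D : Set X) := by
    by_contra hall
    push_neg at hall
    exact hX (Cfsg.Agent.Transfer.hasNormalPComplement_of_frobenius fun D hD g hg ho => hall D hD g hg ho)
  obtain ⟨D, hD, y, -, hyo, hyc⟩ := hcases
  have hDP : D ≤ (P : Subgroup X) := by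
    obtain ⟨Q, hQ⟩ := hD.exists_le_sylow
    haveI := Sylow.unique_of_normal P hn
    rwa [Subsingleton.elim Q P] at hQ
  have hyq : orderOf y ∣ q ^ r := by
    refine (Nat.Coprime.pow_right t hyo).dvd_of_dvd_mul_left ?_
    rw [← hcard]
    exact orderOf_dvd_natCard y
  have hyq' : y ^ (q ^ r) = 1 := orderOf_dvd_iff_pow_eq_one.1 hyq
  have hcommP : ∀ z : X, z ^ (q ^ r) = 1 → (P : Subgroup X) ⊔ zpowers z ≠ ⊤ → ∀ x ∈ (P : Subgroup X), Commute z x := by
    intro z hz hne x hx
    refine Cfsg.Agent.Basics.commute_of_coprime_le (hnil _ hne) (mem_sup_right (mem_zpowers z)) (mem_sup_left hx) ?_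
    obtain ⟨k, hk⟩ := P.isPGroup' ⟨x, hx⟩
    exact Nat.Coprime.coprime_dvd_right (orderOf_dvd_of_pow_eq_one (congrArg Subtype.val hk))
      (Nat.Coprime.coprime_dvd_left (orderOf_dvd_of_pow_eq_one hz) ((Nat.Coprime.pow_left r hcop).pow_right k))
  have hysup : (P : Subgroup X) ⊔ zpowers y = ⊤ := by
    by_contra hne
    exact hyc fun x hx => (hcommP y hyq' hne x (hDP hx)).eq.symm
  have hdecomp : ∀ (z : X), (P : Subgroup X) ⊔ zpowers z = ⊤ → ∀ x : X, ∃ d ∈ (P : Subgroup X), ∃ i : ℤ, x = d * z ^ i := by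
    intro z hz x
    have : x ∈ ((P : Subgroup X) : Set X) * (zpowers z : Set X) := by
      rw [← normal_mul, hz]; exact mem_top x
    obtain ⟨d, hd, c, hc, rfl⟩ := Set.mem_mul.1 this
    obtain ⟨i, rfl⟩ := mem_zpowers_iff.1 hc
    exact ⟨d, hd, i, rfl⟩
  have hPy : ∀ z : X, z ^ (q ^ r) = 1 → z ∈ (P : Subgroup X) → z = 1 := by
    intro z hz hzP
    obtain ⟨k, hk⟩ := P.isPGroup' ⟨z, hzP⟩
    have := pow_gcd_eq_one.2 ⟨hz, (congrArg Subtype.val hk : z ^ p ^ k = 1)⟩
    rwa [(Nat.Coprime.pow_left r hcop).pow_right k, pow_one] at this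
  have hzpow : ∀ i : ℤ, (y ^ i) ^ (q ^ r) = 1 := fun i => by
    rw [← zpow_natCast, ← zpow_mul, mul_comm, zpow_mul, zpow_natCast, hyq', one_zpow]
  refine ⟨P, hn, y, P.isPGroup', hyq', hysup, ?_, ?_, ?_⟩
  · -- the `q`-th power centralises
    have hne : (P : Subgroup X) ⊔ zpowers (y ^ q) ≠ ⊤ := by
      intro htop
      obtain ⟨d, hd, i, hi⟩ := hdecomp _ htop y
      have h1 : y ^ (1 - (q : ℤ) * i) ∈ (P : Subgroup X) := by
        rw [zpow_sub, zpow_one, zpow_mul, zpow_natCast, ← eq_mul_inv_of_mul_eq hi.symm]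
        exact hd
      have h2 := hPy _ (hzpow _) h1
      rw [← orderOf_dvd_iff_zpow_eq_one] at h2
      apply hyc
      intro x hx
      obtain ⟨m, hm, hm'⟩ := (Nat.dvd_prime_pow hq).1 hyq
      rcases Nat.eq_zero_or_pos m with rfl | hm0
      · rw [pow_zero, orderOf_eq_one_iff] at hm'; simp [hm']
      · exfalso
        have h3 : (q : ℤ) ∣ 1 := by
          have h4 : (q : ℤ) ∣ 1 - (q : ℤ) * i := dvd_trans (Int.natCast_dvd_natCast.2 (hm' ▸ dvd_pow_self q hm0.ne')) h2
          simpa using h4.add (dvd_mul_right (q : ℤ) i)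
        exact hq.one_lt.ne' (Nat.dvd_one.1 (Int.natCast_dvd_natCast.1 (by exact_mod_cast h3)))
    refine MulEquiv.ext fun x => Subtype.ext ?_
    rw [← map_pow, MulAut.conjNormal_apply, MulAut.one_apply]
    rw [(hcommP (y ^ q) (by rw [← pow_mul, mul_comm, pow_mul, hyq', one_pow]) hne x x.2).eq, mul_inv_cancel_right]
  · intro h1
    refine hyc fun x hx => ?_
    have := congrArg (fun φ : MulAut (P : Subgroup X) => ((φ ⟨x, hDP hx⟩ : (P : Subgroup X)) : X)) h1
    rw [MulAut.conjNormal_apply, MulAut.one_apply] at this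
    exact (mul_inv_eq_iff_eq_mul.1 this).symm
  · intro R hR hRne x hx
    have hnormR : y ∈ normalizer ((R.map (P : Subgroup X).subtype : Subgroup X) : Set X) := by
      rw [mem_normalizer_iff]
      have hfwd : ∀ z, z ∈ R.map (P : Subgroup X).subtype → y * z * y⁻¹ ∈ R.map (P : Subgroup X).subtype := by
        rintro z ⟨u, hu, rfl⟩
        exact ⟨_, hR u hu, MulAut.conjNormal_apply _ _⟩
      intro z
      refine ⟨hfwd z, fun hz => ?_⟩
      have hiter : ∀ n : ℕ, y ^ n * (y * z * y⁻¹) * (y ^ n)⁻¹ ∈ R.map (P : Subgroup X).subtype := by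
        intro n
        induction n with
        | zero => simpa using hz
        | succ n ih =>
          have := hfwd _ ih
          rwa [show y * (y ^ n * (y * z * y⁻¹) * (y ^ n)⁻¹) * y⁻¹ = y ^ (n + 1) * (y * z * y⁻¹) * (y ^ (n + 1))⁻¹ by
            rw [pow_succ']; group] at this
      have := hiter (q ^ r - 1)
      rwa [show y ^ (q ^ r - 1) = y⁻¹ from eq_inv_of_mul_eq_one_left (by
        rw [← pow_succ, Nat.sub_add_cancel (Nat.one_le_pow _ _ hq.pos), hyq']),
        show y⁻¹ * (y * z * y⁻¹) * y⁻¹⁻¹ = z by group] at this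
    have hne : R.map (P : Subgroup X).subtype ⊔ zpowers y ≠ ⊤ := by
      intro htop
      apply hRne
      rw [eq_top_iff]
      intro u _
      have hu : (u : X) ∈ (R.map (P : Subgroup X).subtype ⊔ zpowers y : Subgroup X) := htop ▸ mem_top _
      rw [← SetLike.mem_coe, coe_mul_of_right_le_normalizer_left _ _ (zpowers_le.2 hnormR)] at hu
      obtain ⟨z, ⟨b, hb, rfl⟩, c, hc, he⟩ := Set.mem_mul.1 hu
      obtain ⟨i, rfl⟩ := mem_zpowers_iff.1 hc
      have h1 : y ^ i ∈ (P : Subgroup X) := by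
        rw [eq_inv_mul_of_mul_eq he]
        exact mul_mem (inv_mem b.2) u.2
      rw [hPy _ (hzpow i) h1, mul_one] at he
      rw [← Subtype.ext he]
      exact hb
    obtain ⟨k, hk⟩ := P.isPGroup' x
    have hc := Cfsg.Agent.Basics.commute_of_coprime_le (hnil _ hne) (x := y) (y := (x : X))
      (mem_sup_right (mem_zpowers y)) (mem_sup_left ⟨x, hx, rfl⟩)
      (Nat.Coprime.coprime_dvd_right (orderOf_dvd_of_pow_eq_one (congrArg Subtype.val hk))
        (Nat.Coprime.coprime_dvd_left hyq ((Nat.Coprime.pow_left r hcop).pow_right k)))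
    apply Subtype.ext
    rw [MulAut.conjNormal_apply, hc.eq, mul_inv_cancel_right]

end Cfsg.Agent.MaxSchmidt
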